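import Mathlib
import Cfsg.Agent.Base
import Cfsg.Agent.Lib.M12C.AB
import Cfsg.Agent.Lib.Functor.SectFus

/-!
# General lemmas for the characterisation of `U₅(2)` (helper70)
-/

set_option autoImplicit false

namespace H70.U52

open Subgroup H69 Cfsg Gold H70.TM

variable {G : Type*} [Group G]

/-- the elements fixing `z` and normalising `⟨y, z⟩` -/
def NZ (z y : G) (h : z * z = 1) : Subgroup G where
  carrier := {g | g * z * g⁻¹ = z ∧ (g * y * g⁻¹ = y ∨ g * y * g⁻¹ = y * z)}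
  one_mem' := by simp
  mul_mem' := by
    rintro g k ⟨a1, a2⟩ ⟨b1, b2 | b2⟩
    · exact ⟨cj_trans b1 a1, a2.imp (cj_trans b2) (cj_trans b2)⟩
    · have e : g * (y * z) * g⁻¹ = g * y * g⁻¹ * z := by rw [← conj_mul, a1]
      exact ⟨cj_trans b1 a1, a2.symm.imp
        (fun c => cj_trans b2 (by rw [e, c, mul_assoc, h, mul_one]))
        fun c => cj_trans b2 (by rw [e, c])⟩
  inv_mem' := by
    rintro g ⟨a1, a2⟩
    refine ⟨cj_symm a1, a2.imp cj_symm fun c => cj_symm ?_⟩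
    rw [← conj_mul, c, a1, mul_assoc, h, mul_one]

theorem mem_NZ {z y g : G} {h : z * z = 1} :
    g ∈ NZ z y h ↔ g * z * g⁻¹ = z ∧ (g * y * g⁻¹ = y ∨ g * y * g⁻¹ = y * z) := Iff.rfl

theorem cj_NZ {z y y' g x : G} {h : z * z = 1} (hz : g * z * g⁻¹ = z) (e : g * y * g⁻¹ = y')
    (hx : x ∈ NZ z y h) : g * x * g⁻¹ ∈ NZ z y' h := by
  rw [mem_NZ] at hx ⊢
  rw [mul_assoc g x]
  exact ⟨cj_trans (cj_trans (cj_symm hz) hx.1) hz, hx.2.imp
    (fun c => cj_trans (cj_trans (cj_symm e) c) e)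
    fun c => cj_trans (cj_trans (cj_symm e) c) (by rw [← conj_mul, e, hz])⟩

theorem act_of_norm {E : Type*} [Group E] {φ : E →* G} {N : Subgroup E} {g : G}
    (h : g ∈ 𝐍(N.map φ)) {e : E} (he : e ∈ N) : ∃ f ∈ N, Act φ g e f := by
  obtain ⟨f, hf, a⟩ := conj_mem_of_mem_normalizer h (mem_map_of_mem φ he)
  exact ⟨f, hf, a.symm⟩

/-- the join of the cores for a four-group -/
def W2 (x y : G) : Subgroup G := Oc x ⊔ Oc y ⊔ Oc (x * y)

variable [Finite G]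

theorem norm_map {E : Type*} [Group E] {φ : E →* G} {N : Subgroup E} {g : G}
    (h : ∀ e ∈ N, ∃ f ∈ N, Act φ g e f) : g ∈ 𝐍(N.map φ) := mem_normalizer_of_cj_le (by
  rintro _ ⟨_, ⟨e, he, rfl⟩, rfl⟩
  obtain ⟨f, hf, a⟩ := h e he
  exact ⟨f, hf, a.eq.symm⟩)

theorem W2_cj (x y g : G) : W2 x y ^ᶜ g = W2 (g * x * g⁻¹) (g * y * g⁻¹) := by
  rw [W2, cj_sup, cj_sup, Oc_cj, Oc_cj, Oc_cj, W2, conj_mul]

theorem sig2 {A : Subgroup G} (hA : IsElementaryAbelian 2 A) (h8 : 8 ≤ Nat.card A)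
    (hs : ∀ a ∈ A, a ≠ 1 → Group.IsSolvable 𝐂₀(a)) :
    OddS (WO A) ∧ ∀ x ∈ A, ∀ y ∈ A, x ≠ 1 → y ≠ 1 → x ≠ y → W2 x y = WO A := by
  have c : ∀ a ∈ A, A ≤ 𝐂₀(a) := fun a ha => H43.ea_le_centralizer_singleton hA ha
  obtain ⟨h1, h2⟩ := Cfsg.Agent.S0217.result (p := 2) A (fun a ha b hb => ea_cent hA hb a ha)
    (fun a ha => by rw [pow_two, ea_sq hA ha]) h8 Oc (fun a _ _ => Oc_le a) (fun a _ _ => Oc_odd a)
    (fun a ha _ b hb x hx => conj_mem_of_mem_normalizer (cent_norm_Oc a (c a ha hb)) hx)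
    (fun a _ _ => solv_odd (Oc_odd a)) fun a ha a1 b hb b1 =>
      (Cfsg.Agent.S1958.result 2 a b (ord2 (ea_sq hA ha) a1) (ord2 (ea_sq hA hb) b1)
        (mem_c.1 (c b hb ha)) (hs a ha a1) (hs b hb b1)).le.trans inf_le_left
  refine ⟨h1, fun x hx y hy x1 y1 e => ?_⟩
  have n : A ≤ 𝐍(WO A) := le_normalizer.trans (norm_WO A)
  have xy : x * y ≠ 1 := fun f => e (by rw [← inv_eq_of_mul_eq_one_right f, ea_inv hA hx])
  exact le_antisymm (sup_le (sup_le (le_WO hx x1) (le_WO hy y1)) (le_WO (mul_mem hx hy) xy))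
    (le_of_four (ord2 (ea_sq hA hx) x1) (ord2 (ea_sq hA hy) y1) (mem_c.1 (c y hy hx)) e
      (OddS.cop h1) (n hx) (n hy) ((h2 x hx x1).le.trans (le_sup_of_le_left le_sup_left))
      ((h2 y hy y1).le.trans (le_sup_of_le_left le_sup_right))
      ((h2 _ (mul_mem hx hy) xy).le.trans le_sup_right))

theorem solv_of_syl {P K L : Subgroup G} (hP : IsSylowIn 2 P L) (h1 : P ≤ K) (h2 : K ≤ L)
    (hn : L ≤ 𝐍(K)) (hK : Group.IsSolvable K) : Group.IsSolvable L := by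
  have := normal_subgroupOf_of_le_normalizer hn
  exact H1.isSolvable_of_normal_of_quotient (K.subgroupOf L) (H1.isSolvable_subgroupOf hK L)
    (Cfsg.Agent.S0205.result (Nat.not_even_iff_odd.1 fun e =>
      hP.not_dvd_relIndex_of_le h1 h2 e.two_dvd))

theorem solv_sup {K N L : Subgroup G} (hK : Group.IsSolvable K) (hN : Group.IsSolvable N)
    (h : N ≤ 𝐍(K)) (e : L ≤ K ⊔ N) : Group.IsSolvable L :=
  H1.isSolvable_of_le (sup_comm N K ▸ H1.isSolvable_sup_of_le_normalizer hN hK h) e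

/-- the preimage of a subgroup of odd order -/
theorem syl_comap {X : Type*} [Group X] [Finite X] (π : G →* X) (hk : IsPGroup 2 π.ker)
    {O : Subgroup X} (hO : OddS O) : IsSylowIn 2 π.ker (O.comap π) :=
  ⟨fun x hx => by rw [mem_comap, MonoidHom.mem_ker.1 hx]; exact one_mem _, hk,
    fun R h1 h2 h3 => le_antisymm (fun x hx => by
      obtain ⟨k, hk⟩ := El2.of_mem h3 hx
      exact hO.eq_one (h2 hx) ⟨k, by rw [← map_pow, hk, map_one]⟩) h1⟩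

/-- a central Sylow subgroup of order 2 -/
theorem burn2 {O L : Subgroup G} {z : G} (z2 : z * z = 1) (hO : IsSylowIn 2 (zpowers z) O)
    (h1 : O ≤ L) (h2 : L ≤ 𝐍(O)) (h3 : O ≤ 𝐂₀(z)) : O ≤ Od L ⊔ zpowers z :=
  (burn hO fun g hg => by rw [centralizer_zpowers]; exact h3 hg.1).trans
    (sup_le_sup_right (Od_le_Od h1 h2) _)

/-- `Z*` modulo a normal 2-subgroup -/
theorem zq {L N P K : Subgroup G} {t : G} (hP : IsSylowIn 2 P L) (hN : N ≤ P) (hn : L ≤ 𝐍(N))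
    (ht : t ∈ P) (t1 : t ∉ N) (t2 : t * t ∈ N)
    (iso : ∀ g ∈ L, g * t * g⁻¹ ∈ P → g * t * g⁻¹ * t⁻¹ ∈ N)
    (hK : ∀ g ∈ L, g * t * g⁻¹ * t⁻¹ ∈ N → g ∈ K) :
    ∃ O ≤ L, L ≤ 𝐍(O) ∧ IsSylowIn 2 N O ∧ L ≤ O ⊔ K := by
  have := normal_subgroupOf_of_le_normalizer hn
  set π := QuotientGroup.mk' (N.subgroupOf L) with hπ
  have sj : Function.Surjective π := QuotientGroup.mk'_surjective _
  have k1 : ∀ x : L, π x = 1 ↔ (x : G) ∈ N := fun x => QuotientGroup.eq_one_iff x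
  obtain ⟨S, hS⟩ := (map_top_of_surjective π sj ▸ hP.subgroupOf_top.map π).exists_sylow_top
  have a := H73.centralizer_sup_oddCore_eq_top S (u := π ⟨t, hP.le ht⟩)
    (ord2 (by rw [← map_mul, k1]; exact t2) fun c => t1 ((k1 _).1 c))
    (hS.ge (mem_map_of_mem π ht)) fun g hg => by
      obtain ⟨g, rfl⟩ := sj g
      obtain ⟨x, hx, e⟩ := hS.le hg
      rw [← map_inv, ← map_mul, ← map_mul] at e ⊢
      have : (x : G)⁻¹ * (g * t * g⁻¹) ∈ N :=
        (k1 (x⁻¹ * (g * ⟨t, hP.le ht⟩ * g⁻¹))).1 (by rw [map_mul, map_inv, e, inv_mul_cancel])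
      rw [← mul_inv_eq_one, ← map_inv, ← map_mul, k1]
      exact iso g g.2 (by simpa using mul_mem (show (x : G) ∈ P from hx) (hN this))
  have b := (syl_comap π (by
    rw [hπ, QuotientGroup.ker_mk']; exact isPGroup_subgroupOf (hP.isP.to_le hN) L)
    (O := oddCore _) (oddS_iff.2 H1.odd_card_oddCore)).map_subtype
  rw [hπ, QuotientGroup.ker_mk', map_subgroupOf_eq_of_le (hN.trans hP.le)] at b
  refine ⟨_, map_subtype_le _, normal_iff_le_normalizer_map.1 inferInstance, b, fun g hg => ?_⟩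
  rw [sup_comm] at a
  obtain ⟨o, ho, c, hc, e⟩ := (mem_sup_of_le_normalizer_left le_normalizer_of_normal).1
    (a.ge (mem_top (π ⟨g, hg⟩)))
  obtain ⟨o, rfl⟩ := sj o
  have : (o : G)⁻¹ * g ∈ K := hK _ (mul_mem (inv_mem o.2) hg)
    ((k1 (o⁻¹ * ⟨g, hg⟩ * ⟨t, hP.le ht⟩ * (o⁻¹ * ⟨g, hg⟩)⁻¹ * ⟨t, hP.le ht⟩⁻¹)).1 (by
      simp only [map_mul, map_inv]
      rw [e, inv_mul_cancel_left, mul_inv_eq_one, cj_eq_iff'.2 (mem_c.1 hc)]))
  simpa using mul_mem (mem_sup_left (mem_map_of_mem L.subtype (mem_comap.2 ho))) (mem_sup_right this)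

/-- the central involution of a dihedral group -/
theorem dih {x y : G} (hx : x * x = 1) (hy : y * y = 1) (he : Even (orderOf (x * y))) :
    ∃ u, orderOf u = 2 ∧ u * x = x * u ∧ u * y = y * u ∧ (Cj x (u * x) ∨ Cj y (u * x)) ∧
      (Cj x (u * y) ∨ Cj y (u * y)) := by
  have hc := H9.pow_half_commute hx hy he
  refine ⟨_, H9.orderOf_pow_half he, hc.1, hc.2, ?_⟩
  generalize orderOf (x * y) / 2 = n
  have k1 : ∀ k : ℤ, Cj x ((x * y) ^ (2 * k) * x) := fun k => ⟨_, H9.zpow_conj_left hx hy k⟩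
  have k2 : ∀ k : ℤ, Cj y ((x * y) ^ (2 * k) * y) := fun k => ⟨(x * y) ^ k, by
    rw [← zpow_neg, mul_assoc, H9.right_mul_zpow hx hy, neg_neg, ← mul_assoc, ← zpow_add, two_mul]⟩
  have e1 : ∀ k : ℤ, (x * y) ^ (k + 1) * y = (x * y) ^ k * x := fun k => by
    rw [zpow_add_one, mul_assoc, mul_assoc, hy, mul_one]
  rw [← zpow_natCast]
  rcases Int.even_or_odd' (n : ℤ) with ⟨k, e | e⟩ <;> rw [e]
  · exact ⟨Or.inl (k1 k), Or.inr (k2 k)⟩
  · exact ⟨Or.inr (by rw [← e1, add_assoc, ← two_mul, ← mul_add]; exact k2 _),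
      Or.inl (e1 _ ▸ k1 k)⟩

end H70.U52
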