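import Mathlib
import Cfsg.Agent.Base
import Cfsg.Agent.Lib.U52.TU52
import Cfsg.Agent.Lib.M12C.Mod

/-!
# The Sylow 2-subgroup of `U₅(2)`: finite facts (helper70)
-/

set_option autoImplicit false
set_option maxRecDepth 100000
set_option synthInstance.maxSize 4000

namespace H70.U52

open Subgroup H70.TM

/-- the set with a bit mask -/
def In (D : ℕ) (u : E) : Prop := H54.tb D u.val = true
instance (D : ℕ) (u : E) : Decidable (In D u) := inferInstanceAs (Decidable (_ = true))

/-- counting -/
noncomputable def cn (P : E → Prop) [DecidablePred P] : ℕ :=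
  El.cnt (fun i => decide (P (El.of tb i))) tb.n

theorem cn_eq (P : E → Prop) [DecidablePred P] : Nat.card {u // P u} = cn P := El.card_subtype P

/-- evaluation of an element -/
noncomputable def frc {α : Type} (u : E) (f : E → α) : α := H54.force u.val fun v => f (El.of tb v)

theorem frc_eq {α : Type} (u : E) (f : E → α) : frc u f = f u := by
  rw [frc, H54.force_eq, El.of_val]

noncomputable def z : E := El.of tb 965
noncomputable def t : E := El.of tb 12
noncomputable def e1 : E := El.of tb 425
noncomputable def e2 : E := El.of tb 518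
noncomputable def e3 : E := El.of tb 974
noncomputable def f1 : E := El.of tb 433
noncomputable def f2 : E := El.of tb 439
noncomputable def ba : E := El.of tb 5

def mQ : ℕ := nat_lit 0x802001544284000001004002a8850800222010844220410a908428414804210080888a28900101000111008422110208548421420a402108040444514480080801080040404428a120010010000000000000084002020221450900080080000000000000000000000000000000000000000000000000000000000000027
def mW : ℕ := nat_lit 0x11000a00146020000000000000000000000000000000000000000000000000000000000000000000000000000000000000000000000000000000000000004000000000000000000000020000000000000002000000000000000000000000000000000000000000000000000000000000000000000400008000000000001001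
def mD : ℕ := nat_lit 0x20000000000000000000000000000000000000000000000000000000000000000000000000000000000000000000000000000000000000000000000000000000000000000000000000000002000000000000000000000000000000000000000000000000000000000000000000000400008000000000001000
def mA : ℕ := nat_lit 0xcbd359ffefff03ec4197a6b3ffdffe07d8a6a89f08cd02c38c0049f91a5d46d164b5f63f1ce7ce9fa8eb3544f84668161c60024fc8d2ea368b25afb1f8e73e74fd4754dd2b04ec070c6062c86b71433f4e6b3722a6e958276038630316435b8a19fa7359b914c85c32991ba598b2642e194c8dd2cc594ce9912674c8ae974db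
def mB : ℕ := nat_lit 0x5e91963a9bfffa7cf942dcd38ac8000b060dcda76d22965377fcff74ee404becc4db536f5d39e7e9cabed192c496eb4d64401804588dfda099d92564851630c0b1aa0926ed69b73aece74fd3c943ed8e9f9d4e46eec894b2462898c58161b5e0938b03158dc88e4fb3a9c8dda744f8d8262b1b912c5d84e89c8d8bb1b889bb1d
def mC : ℕ := nat_lit 0xadd35c5a9afff5bdc2a459474aca0014847858d16251b980b0c30414801a607e2d6ff3f3530864ffcfcf9d3974ed7233fa79e7df5bff2cfc0e9480606567bcd801818394c026060563deb600b00b0642948402cb3b59fecfcfd4e10a4ffa7fa7cdeb5bdfe9a63d358f7fa6980130216538402cb3ff67efd9fa601302cd9f3039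
def nA : ℕ := nat_lit 0x40020000000000000080040000000000000000000000000000000000000000000000000000000000000000000000000000000000000000000000000000000000000000000020000000000000000000000000000000000100000000000000000000000000000000000000000000000000000000000000000000003
def nB : ℕ := nat_lit 0x100020000000000000000000000000000000000000800040000000000000000000000000000000000000000000000000000000000000000000004000000000000000000000000000000000000000000000000000000000800000000000000000000000000000000000000000000000000000000000000000000005
def nC : ℕ := nat_lit 0x200004020000000000000000000000000000000000000000000000000000000000000000000000000000800000000000802000000000000000000000000000000000000000000000000000000000000000000000000000000000000000000000000000000000000000000000000000000000000000000000000000021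
def dQ : ℕ := nat_lit 0xee0000000000000001800000000000000000000060014003801c0000013c0000002000180000000d00000000000000000000000000000000000000000000760000000000000001c4000000000000000000001080a201c8062000009c00000010400d00000006a00000000000000000000003a800002d000003d000000000000007200000003200000009400001980000001680000350000000000158000000006e0000000c400900740003200000009a0000001080000000700520000001e4000000001d00540006c00000000000001780000003280000007e000000000000007a00000000000034000000a000005c00000ba0250000034808c00000c200052000000000000000000009000000000000160000000000000000000000000074000001b000007b000000000000006600000016000000012000003380000006c000006b00000000000b8000000005e00000008c01300ec000e60000001300000002180000000f00a00000003c0000000003802a0000dc00000000000002f80000006400000007e00000000000001f00000000000016c000011000001bc000017000b0000068001c0000080000a6000000000000000000090000000000000ae0000000000000000027000000078000000000000000000001fc000000000000600000000000011c00000b00000000f80100000056002000000063000080000000000000000000004b0000000000000000000140000000000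00000000000000000000000000000000000000000000000000000000000000000000000000000000000000004c0000001f4000000000000000000001f0000000000002c80000000000003000003680000001e012400000a804500000004400011000000000000000000000140000000000000000000aa000000000000000000000000000000000000000000000000000000000000000000000000000000000000000000000000000000000000000000000000000000000000000000000000000000000000000000000000000000000000000000000000000000000000000000000000000000000000000000000000000000000000000000000000000000000000000000000000000000000000000000000000000000000000000000000000000000000000000000000000000000000000000000000000000000000000000000000000000000000000000000000000000000000001800008080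

noncomputable def Q0 : Subgroup E := El.sub (In mQ) (by decide +kernel)
instance (u : E) : Decidable (u ∈ Q0) := inferInstanceAs (Decidable (In mQ u))
noncomputable def W0 : Subgroup E := El.sub (In mW) (by decide +kernel)
instance (u : E) : Decidable (u ∈ W0) := inferInstanceAs (Decidable (In mW u))
/-- the five transvections -/
def PD (u : E) : Prop := In mD u
instance (u : E) : Decidable (PD u) := inferInstanceAs (Decidable (In mD u))
/-- the generators -/
noncomputable def gT : List E := [a, b, c, d]
/-- generators of `Q` -/
noncomputable def gQ : List E := [a, b, f1, f2, e1, e2]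
/-- conjugating elements -/
noncomputable def kL : List E := [El.of tb 0, El.of tb 3, El.of tb 4, El.of tb 12, El.of tb 13, El.of tb 16, El.of tb 40, El.of tb 41, El.of tb 10, El.of tb 14, El.of tb 34, El.of tb 35, El.of tb 45, El.of tb 98, El.of tb 99, El.of tb 259, El.of tb 11, El.of tb 15, El.of tb 36, El.of tb 37, El.of tb 47, El.of tb 104, El.of tb 105, El.of tb 271]

theorem zc : ∀ u : E, u * z = z * u := by decide +kernel
theorem z2 : z * z = 1 ∧ z ≠ 1 := by decide +kernel
theorem cen : ∀ u : E, (∀ g ∈ gQ, g * u = u * g) → u = 1 ∨ u = z := by decide +kernel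
theorem cenQ : ∀ u : E, (∀ g ∈ gQ, u * g * u⁻¹ = g ∨ u * g * u⁻¹ = g * z) → u ∈ Q0 := by
  decide +kernel
theorem gQ_mem : ∀ g ∈ gQ, g ∈ Q0 := by decide +kernel
theorem pow8 : ∀ u : E, u ^ 2 ^ 3 = 1 := by decide +kernel

theorem pd_cls : ∀ u, PD u → u = z ∨ ∃ k ∈ Q0, k * t * k⁻¹ = u := by decide +kernel
theorem pd_W : ∀ u, PD u → u ∈ W0 ∧ u ≠ 1 := by decide +kernel
theorem pd_Q : ∀ u, PD u → u ∈ Q0 → u = z := by decide +kernel
theorem pd_mul : ∀ u, PD u → ∀ w, PD w → ¬ PD (u * w) ∧ (u = z ∨ w = z ∨ u * w⁻¹ ∈ Q0) := by
  decide +kernel
theorem pd_pair : ∀ u, PD u → PD (u * e1) → u = t ∨ u = t * e1 := by decide +kernel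
theorem pd_z : PD z := by decide +kernel
theorem pd_t : PD t := by decide +kernel
theorem W_gen : ∀ e ∈ W0, e = 1 ∨ PD e ∨ ∃ u, PD u ∧ ∃ w, PD w ∧ u ≠ w ∧ u * w = e := by
  decide +kernel
theorem W_sq : ∀ e ∈ W0, e * e = 1 := by decide +kernel
theorem W_comm : ∀ e ∈ W0, ∀ f ∈ W0, e * f = f * e := by decide +kernel
theorem inv_cls : ∀ w : E, w * w = 1 → w ∈ W0 ∨ ∃ k ∈ kL, k * a * k⁻¹ = w ∨ k * b * k⁻¹ = w ∨
    k * ba * k⁻¹ = w := by decide +kernel
theorem inv_Q : ∀ w : E, w * w = 1 → w ∈ Q0 ∨ PD w ∨ PD (w * z) := by decide +kernel
theorem Q_sq : ∀ p ∈ Q0, p * p = 1 ∨ p * p = z := by decide +kernel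
theorem Q_comm : ∀ p ∈ Q0, ∀ q ∈ Q0, p * q * p⁻¹ = q ∨ p * q * p⁻¹ = q * z := by decide +kernel
theorem Q_norm : ∀ g ∈ gT, ∀ p ∈ Q0, g * p * g⁻¹ ∈ Q0 := by decide +kernel

/-- a subgroup of index 2 and its involutions -/
def Idx (D : ℕ) (u : E) : Prop := In D 1 ∧ (∀ g ∈ gT, ∀ v, In D (g * v) ↔ (In D g ↔ In D v)) ∧
  ∀ w : E, w * w = 1 → In D w → w ∈ W0 ∨ ∃ k ∈ kL, k * u * k⁻¹ = w

theorem idxA : Idx mA a := by unfold Idx; decide +kernel
theorem idxB : Idx mB b := by unfold Idx; decide +kernel
theorem idxC : Idx mC ba := by unfold Idx; decide +kernel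

/-- an elementary abelian subgroup of order 8 -/
def Ea (D : ℕ) (u e : E) : Prop := (In D 1 ∧ ∀ u, In D u → In D u⁻¹ ∧ ∀ v, In D v → In D (u * v)) ∧
  (∀ u, In D u → u * u = 1) ∧ 8 ≤ cn (In D) ∧ In D z ∧ In D u ∧ In D e ∧ u ≠ 1 ∧ u ≠ z ∧ e ≠ 1 ∧
  e ≠ z ∧ e ∈ W0

theorem eaA : Ea nA a e1 := by unfold Ea; decide +kernel
theorem eaB : Ea nB b e2 := by unfold Ea; decide +kernel
theorem eaC : Ea nC ba e3 := by unfold Ea; decide +kernel

theorem chain : ∀ g ∈ gT, ∀ p ∈ Q0, frc (g * p * g⁻¹ * p⁻¹) fun x => (x ∈ Q0 ∧ x * t = t * x) ∧
    (p * t = t * p → x ∈ W0) ∧ (p ∈ W0 → x = 1 ∨ x = z) := by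
  simp only [frc_eq]; decide +kernel

theorem pl1 : ∀ p ∈ Q0, p * p = z → ∀ x : E, x = c * p * c⁻¹ * p⁻¹ →
    (x * x = 1 ∧ x ≠ 1 ∧ x ≠ z) ∨ ∀ y : E, y = c * x * c⁻¹ * x⁻¹ → y * y = 1 ∧ y ≠ 1 ∧ y ≠ z := by
  simp only [forall_eq]; decide +kernel
theorem pl2 : ∀ p ∈ Q0, p * p = z → c * p * c⁻¹ * p = p * (c * p * c⁻¹) → ∀ q ∈ Q0, q * q = z →
    c * q * c⁻¹ * q = q * (c * q * c⁻¹) → c * p * c⁻¹ * q = q * (c * p * c⁻¹) →
    c * q * c⁻¹ * p = p * (c * q * c⁻¹) → p * q = q * p := by decide +kernel

/-- words for the elements of `Q` -/
noncomputable def wq (u : E) : E :=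
  H54.force (Nat.land (Nat.shiftRight dQ (Nat.mul 7 u.val)) 127) fun e =>
    a ^ (e % 2) * b ^ (e / 2 % 2) * f1 ^ (e / 4 % 2) * f2 ^ (e / 8 % 2) * e1 ^ (e / 16 % 2) *
      e2 ^ (e / 32 % 2) * (f1 * f1) ^ (e / 64)

theorem wq_ok : ∀ u ∈ Q0, wq u = u := by decide +kernel

/-- the Siegel transformation -/
noncomputable def sg (u w q : E) : E :=
  q * (if q * u = u * q then 1 else w) * (if q * w = w * q then 1 else u)

theorem sg_t : ∀ q ∈ Q0, t * q * t⁻¹ = sg e1 e2 q ∨ t * q * t⁻¹ = sg e1 e2 q * z := by decide +kernel

/-- the product of two Siegel transformations -/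
noncomputable def sf (u w q : E) : E := frc q fun q => t * sg u w q * t⁻¹

end H70.U52
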