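import Mathlib
import Cfsg.Agent.Base
import Cfsg.Agent.Lib.U52.Facts

/-!
# The Sylow 2-subgroup of `U₅(2)`: counts (helper70)
-/

set_option autoImplicit false
set_option maxRecDepth 100000
set_option synthInstance.maxSize 4000

namespace H70.U52

open Subgroup H70.TM

theorem cntA : ∀ w : E, w * w = 1 → w ≠ 1 → w ≠ z → ¬ PD w →
    16 < cn (fun p => p * p = z ∧ p * w = w * p) ∧ (208 < cn (fun p => p * p ≠ w ∧ p * w = w * p) ∨
      16 < cn fun p => p * p = 1 ∧ p * w = w * p) := by decide +kernel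
theorem cntB : ∀ w : E, w * w = 1 → w ≠ 1 → w ≠ z →
    cn (fun p => p * p = w ∧ p * w = w * p) ≤ 16 ∨ (cn (fun p => p * p ≠ z ∧ p * w = w * p) ≤ 208 ∧
      cn (fun p => p * p = 1 ∧ p * w = w * p) ≤ 16) := by decide +kernel
theorem cntC : ∀ w : E, w * w = 1 → w ≠ 1 → w ≠ z → cn (fun p => p * w = w * p) ≤ 512 := by
  decide +kernel
theorem cntC' : cn (fun p => p * e1 = e1 * p) = 512 := by decide +kernel
theorem cntD : ∀ y : E, y * y = z →
    cn (fun p => p * p ≠ 1 ∧ (p * y * p⁻¹ = y ∨ p * y * p⁻¹ = y * z)) < 240 ∨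
    cn (fun p => p * p = 1 ∧ (p * y * p⁻¹ = y ∨ p * y * p⁻¹ = y * z)) < 56 := by decide +kernel
theorem cntE : ∀ y : E, y * y = z → y ∈ Q0 →
    56 ≤ cn (fun p => p * p = 1 ∧ (p * y * p⁻¹ = y ∨ p * y * p⁻¹ = y * z)) := by decide +kernel
theorem cntF : ∀ y : E, y * y = z → y ∉ Q0 →
    240 ≤ cn (fun p => p * p ≠ 1 ∧ (p * y * p⁻¹ = y ∨ p * y * p⁻¹ = y * z)) := by decide +kernel

end H70.U52
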