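import Mathlib
import Cfsg.Agent.Base
import Cfsg.Agent.Lib.U52.Cnt
import Cfsg.Agent.Lib.U52.Gen
import Cfsg.Agent.Lib.SE42.Basic
import Cfsg.Agent.S0215
import Cfsg.Agent.S1169

/-!
# Groups with a Sylow 2-subgroup of type `U₅(2)`: fusion (helper70)
-/

set_option autoImplicit false
set_option maxRecDepth 100000
set_option synthInstance.maxSize 4000

namespace H70.U52

open Subgroup H69 Cfsg Gold H70.TM

variable {G : Type*} [Group G] {σ : E →* G} {g k : G} {u w u' w' p p' : E} {D : ℕ}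

theorem two_map (σ : E →* G) (K : Subgroup E) : IsPGroup 2 (K.map σ) := isP_of_pow 3 (by
  rintro _ ⟨u, -, rfl⟩
  rw [← map_pow, pow8 u, map_one])

theorem mapc (h : u * w = w * u) : σ u ∈ 𝐂₀(σ w) := mem_c.2 (by rw [← map_mul, h, map_mul])

theorem range_c : σ.range ≤ 𝐂₀(σ z) := by rintro _ ⟨u, rfl⟩; exact mapc (zc u)

theorem actc : Act σ g u u ↔ g ∈ 𝐂₀(σ u) := cj_eq_iff'.trans mem_c.symm

theorem actz (σ : E →* G) (u : E) : Act σ (σ u) z z := actc.2 (mapc (zc u))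

theorem zz (σ : E →* G) : σ z * σ z = 1 := by rw [← map_mul, z2.1, map_one]

theorem cj_cent (h : Act σ g u w) : 𝐂₀(u).map σ ^ᶜ g ≤ 𝐂₀(σ w) := by
  rw [← h.eq, ← cj_centralizer_singleton]
  refine cj_mono g ?_
  rintro _ ⟨p, hp, rfl⟩
  exact mapc (mem_c.1 hp)

theorem le_of_gT {K : Subgroup E} (h : ∀ g ∈ gT, g ∈ K) (u : E) : u ∈ K :=
  (eq_top (h a (by simp [gT])) (h b (by simp [gT])) (h c (by simp [gT])) (h d (by simp [gT]))).ge
    (mem_top u)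

theorem le_of_gQ {K : Subgroup E} (h : ∀ g ∈ gQ, g ∈ K) : Q0 ≤ K := fun u hu => by
  have h3 := h f1 (by simp [gQ])
  exact wq_ok u hu ▸ mul_mem (mul_mem (mul_mem (mul_mem (mul_mem (mul_mem
    (pow_mem (h a (by simp [gQ])) _) (pow_mem (h b (by simp [gQ])) _)) (pow_mem h3 _))
    (pow_mem (h f2 (by simp [gQ])) _)) (pow_mem (h e1 (by simp [gQ])) _))
    (pow_mem (h e2 (by simp [gQ])) _)) (pow_mem (mul_mem h3 h3) _)

instance : Q0.Normal := normalizer_eq_top_iff.1 (eq_top_iff.2 fun u _ => le_of_gT (fun g hg =>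
  mem_normalizer_of_cj_le (by rintro _ ⟨p, hp, rfl⟩; exact Q_norm g hg p hp)) u)

theorem zQ : z ∈ Q0 := by decide +kernel

theorem Idx.mul (h : Idx D u) (x : E) : ∀ v, In D (x * v) ↔ (In D x ↔ In D v) := by
  induction x using El.induction with
  | h1 => intro v; rw [one_mul]; have := h.1; tauto
  | h g hg x ih =>
    intro v
    have := h.2.1 _ (List.mem_map_of_mem (f := El.of tb) hg)
    rw [mul_assoc, this, this, ih]; tauto

theorem nz_z (h : p * (u * z) * p⁻¹ = u * z ∨ p * (u * z) * p⁻¹ = u * z * z) :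
    p * u * p⁻¹ = u ∨ p * u * p⁻¹ = u * z := by
  rw [← conj_mul, cj_eq_iff'.2 (zc p)] at h
  exact h.imp mul_right_cancel mul_right_cancel

/-- the image of `σ` is a Sylow 2-subgroup -/
structure Sy (σ : E →* G) : Prop where
  inj : Function.Injective σ
  syl : IsSylowIn 2 σ.range ⊤

namespace Sy

theorem eq (s : Sy σ) (h : Act σ g u w) (h' : Act σ g u w') : w = w' := s.inj (h.eq.symm.trans h')
theorem eq' (s : Sy σ) (h : Act σ g u w) (h' : Act σ g u' w) : u = u' := s.eq h.symm h'.symm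
theorem comm (s : Sy σ) (h : Act σ g u w) (h' : Act σ g u' w') (e : u * u' = u' * u) :
    w * w' = w' * w := s.eq (h.mul h') (e ▸ h'.mul h)
theorem sq (s : Sy σ) (h : Act σ g u w) (e : u * u = 1) : w * w = 1 :=
  s.eq (h.mul h) (e ▸ Act.one σ g)
theorem ne (s : Sy σ) (h : Act σ g u w) (e : u ≠ 1) : w ≠ 1 :=
  fun c => e (s.eq' h (c ▸ Act.one σ g))
theorem ord (s : Sy σ) (h : u * u = 1 ∧ u ≠ 1) : orderOf (σ u) = 2 :=
  ord2 (by rw [← map_mul, h.1, map_one]) fun e => h.2 (s.inj (e.trans (map_one σ).symm))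
theorem card (s : Sy σ) (K : Subgroup E) : Nat.card (K.map σ) = Nat.card K :=
  card_map_of_injective s.inj
theorem mem (s : Sy σ) {K : Subgroup E} : σ u ∈ K.map σ ↔ u ∈ K := mem_map_iff_mem s.inj
theorem comm' (s : Sy σ) (h : σ u ∈ 𝐂₀(σ w)) : u * w = w * u :=
  s.inj (by rw [map_mul, map_mul]; exact mem_c.1 h)

theorem cnt_le (s : Sy σ) {P P' : E → Prop} [DecidablePred P] [DecidablePred P']
    (h : ∀ p, P p → ∃ p', Act σ g p p' ∧ P' p') : cn P ≤ cn P' := by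
  rw [← cn_eq, ← cn_eq]
  choose f hf using h
  exact Nat.card_le_card_of_injective (fun p : {p // P p} => (⟨f p p.2, (hf p p.2).2⟩ : {p // P' p}))
    fun p q e => Subtype.ext (s.eq' (hf p p.2).1 ((hf q q.2).1.of_eq
      ⟨rfl, (congrArg Subtype.val e).symm⟩))

theorem nz (s : Sy σ) (hz : Act σ g z z) (h : Act σ g u w) (e : Act σ g p p')
    (hp : p * u * p⁻¹ = u ∨ p * u * p⁻¹ = u * z) : p' * w * p'⁻¹ = w ∨ p' * w * p'⁻¹ = w * z :=
  hp.imp (fun c => s.eq ((e.mul h).mul e.inv) (h.of_eq ⟨Eq.symm c, rfl⟩))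
    fun c => s.eq ((e.mul h).mul e.inv) ((h.mul hz).of_eq ⟨Eq.symm c, rfl⟩)

variable [Finite G]

theorem into (s : Sy σ) {L T : Subgroup G} (hL : σ.range ≤ L) (hT : IsPGroup 2 T) (h : T ≤ L) :
    ∃ k ∈ L, ∀ x ∈ T, ∃ u, k * x * k⁻¹ = σ u := by
  obtain ⟨k, hk, e⟩ := (s.syl.mono hL le_top).exists_cj_le hT h
  exact ⟨k, hk, fun x hx => let ⟨u, e⟩ := e (cj_mem k hx); ⟨u, e.symm⟩⟩

theorem extz (s : Sy σ) (h : Act σ g u z) :
    ∃ g, Act σ g u z ∧ ∀ p, p * u = u * p → ∃ p', Act σ g p p' := by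
  obtain ⟨k, hk, e⟩ := s.into range_c (isPGroup_cj (two_map σ _) g) (cj_cent h)
  refine ⟨k * g, h.trans (actc.2 hk), fun p hp => ?_⟩
  obtain ⟨p', e'⟩ := e _ (cj_mem g (mem_map_of_mem σ (mem_c.2 hp)))
  exact ⟨p', cj_trans rfl e'⟩

/-- the conjugates of `z` in the Sylow subgroup -/
theorem pd (s : Sy σ) (h : Cj (σ z) (σ u)) : PD u := by
  by_contra hn
  have uz : u ≠ z := fun e => hn (e ▸ pd_z)
  obtain ⟨g, e⟩ := h.symm
  obtain ⟨g, h1, h2⟩ := s.extz e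
  obtain ⟨z', a1⟩ := h2 z (zc u).symm
  have k : ∀ p, p * u = u * p → ∃ p', Act σ g p p' ∧ p' * z' = z' * p' := fun p hp =>
    let ⟨p', a⟩ := h2 p hp; ⟨p', a, s.comm a a1 (zc p)⟩
  obtain ⟨c1, c2⟩ := cntA u (s.sq h1.symm z2.1) (s.ne h1.symm z2.2) uz hn
  rcases cntB z' (s.sq a1 z2.1) (s.ne a1 z2.2) fun c => uz (s.eq' h1 (c ▸ a1)) with d | ⟨d1, d2⟩
  · exact (c1.trans_le (s.cnt_le fun p hp => let ⟨p', a, b⟩ := k p hp.2
      ⟨p', a, s.eq (a.mul a) (hp.1.symm ▸ a1), b⟩)).not_ge d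
  rcases c2 with c2 | c2
  · exact (c2.trans_le (s.cnt_le fun p hp => let ⟨p', a, b⟩ := k p hp.2
      ⟨p', a, fun c => hp.1 (s.eq' (a.mul a) (c.symm ▸ h1)), b⟩)).not_ge d1
  · exact (c2.trans_le (s.cnt_le fun p hp => let ⟨p', a, b⟩ := k p hp.2
      ⟨p', a, s.sq a hp.1, b⟩)).not_ge d2

theorem sylw (s : Sy σ) : IsSylowIn 2 (𝐂₀(e1).map σ) 𝐂₀(σ e1) := by
  have le : 𝐂₀(e1).map σ ≤ 𝐂₀(σ e1) := by rintro _ ⟨p, hp, rfl⟩; exact mapc (mem_c.1 hp)
  obtain ⟨P, hP, h⟩ := exists_isSylowIn_le (two_map σ _) le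
  obtain ⟨k, -, e⟩ := s.into le_top hP.isP le_top
  obtain ⟨w, a⟩ := e _ (h (mem_map_of_mem σ (mem_c.2 rfl)))
  have c : ∀ w : E, Nat.card 𝐂₀(w) = cn fun p => p * w = w * p := fun w =>
    (Nat.card_congr (Equiv.subtypeEquivRight fun _ => mem_c)).trans (cn_eq _)
  refine hP.of_card_le (two_map σ _) le ?_
  rw [← card_cj P k, s.card, c, cntC']
  refine le_trans (card_le_of_le (K := 𝐂₀(w).map σ) ?_) ?_
  · rintro _ ⟨x, hx, rfl⟩
    obtain ⟨p, b⟩ := e x hx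
    exact ⟨p, mem_c.2 (s.comm' (mem_c.2 (by
      rw [← b, ← a]; exact cj_comm k (mem_c.1 (hP.le hx))))), b.symm⟩
  · rw [s.card, c]
    exact cntC w (s.sq a (by decide +kernel)) (s.ne a (by decide +kernel)) fun c =>
      absurd (s.pd (c ▸ Cj.symm ⟨k, a⟩)) (by decide +kernel)

theorem extw (s : Sy σ) (h : Act σ g u e1) :
    ∃ g, Act σ g u e1 ∧ ∀ p, p * u = u * p → ∃ p', Act σ g p p' := by
  obtain ⟨k, hk, e⟩ := s.sylw.exists_cj_le (isPGroup_cj (two_map σ _) g) (cj_cent h)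
  refine ⟨k * g, h.trans (actc.2 hk), fun p hp => ?_⟩
  obtain ⟨p', -, e'⟩ := e (cj_mem k (cj_mem g (mem_map_of_mem σ (mem_c.2 hp))))
  exact ⟨p', cj_trans rfl e'.symm⟩

theorem sc4 (s : Sy σ) (hz : Act σ g z z) (hu : u ∈ Q0) (h : Act σ g u w) (h2 : u * u = z) :
    w ∈ Q0 := by
  by_contra hw
  have k0 : ∀ u : E, (NZ z u z2.1).map σ ≤ NZ (σ z) (σ u) (zz σ) := by
    rintro u _ ⟨p, hp, rfl⟩
    exact ⟨actz σ p, hp.2.imp (Act.of_cj σ) fun c => map_mul σ u z ▸ Act.of_cj σ c⟩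
  obtain ⟨P, hP, le⟩ := exists_isSylowIn_le (two_map σ _) (k0 w)
  obtain ⟨l, hl, e⟩ := hP.exists_cj_le (isPGroup_cj (two_map σ (NZ z u z2.1)) g) (by
    rintro _ ⟨x, hx, rfl⟩; exact cj_NZ hz h (k0 u hx))
  obtain ⟨k, hk, e'⟩ := s.into range_c hP.isP fun x hx => actc.1 (hP.le hx).1
  have m : ∀ {u p : E}, (p * u * p⁻¹ = u ∨ p * u * p⁻¹ = u * z) → σ p ∈ (NZ z u z2.1).map σ :=
    fun h => mem_map_of_mem σ ⟨cj_eq_iff'.2 (zc _), h⟩
  obtain ⟨y, a⟩ := e' _ (le (m (Or.inl (mul_inv_cancel_right w w))))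
  have w2 : w * w = z := s.eq (h.mul h) (h2.symm ▸ hz)
  have kz := actc.2 hk
  have lz : Act σ (k * (l * g)) z z := (hz.trans hl.1).trans kz
  rcases cntD y (s.eq (Act.mul a a) (w2.symm ▸ kz)) with c | c
  · refine c.not_ge ((cntF w w2 hw).trans (s.cnt_le (g := k) fun p hp => ?_))
    obtain ⟨p', b⟩ := e' _ (le (m hp.2))
    exact ⟨p', b, fun c => hp.1 (s.sq (Act.symm b) c), s.nz kz a b hp.2⟩
  · refine c.not_ge ((cntE u h2 hu).trans (s.cnt_le (g := k * (l * g)) fun p hp => ?_))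
    obtain ⟨p', b⟩ := e' _ (e (cj_mem l (cj_mem g (m hp.2))))
    have b' : Act σ (k * (l * g)) p p' := cj_trans (cj_trans rfl rfl) b
    refine ⟨p', b', s.sq b' hp.1, hl.2.elim (fun c => s.nz lz ((h.trans c).trans a) b' hp.2)
      fun c => nz_z (s.nz lz ((h.trans (y := w * z) ?_).trans (Act.mul a kz)) b' hp.2)⟩
    rw [Act, map_mul]; exact c

variable [IsSimpleGroup G]

omit [Finite G] in
theorem not_cen (s : Sy σ) : ¬ ∀ g, g * σ z = σ z * g := fun h => by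
  rcases IsSimpleGroup.eq_bot_or_eq_top_of_normal (center G) inferInstance with e | e
  · exact ne_one_of_ord2 (s.ord z2) (e.le (mem_center_iff.2 h))
  · exact absurd (s.inj (by
      rw [map_mul, map_mul]; exact mem_center_iff.1 (e.ge (mem_top _)) _) : c * d = d * c)
      (by decide +kernel)

theorem odd_bot (s : Sy σ) {N : Subgroup G} (hN : N.Normal) (h : Odd (Nat.card N)) : N = ⊥ :=
  (IsSimpleGroup.eq_bot_or_eq_top_of_normal N hN).resolve_right fun e =>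
    (H9.odd_card_iff_forall_orderOf_ne_two _).1 h _ (e.ge (mem_top _)) (s.ord z2)

theorem dt (s : Sy σ) : Cj (σ z) (σ t) := by
  by_contra hn
  obtain ⟨P, hP⟩ := s.syl.exists_sylow_top
  obtain ⟨N, h1, h2, h3⟩ := Cfsg.Agent.S0215.result P (σ z) (s.ord z2) (hP.ge ⟨z, rfl⟩)
    fun g hg => by
      obtain ⟨u, e⟩ := hP.le hg
      rcases pd_cls u (s.pd ⟨g, e.symm⟩) with c | ⟨k, -, c⟩
      · rw [← e, c]
      · exact absurd (Cj.trans ⟨g, e.symm⟩ (Act.of_cj σ c).cj.symm) hn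
  refine s.not_cen fun g => ?_
  have := h3 g
  rw [s.odd_bot h1 h2, mem_bot, mul_inv_eq_one, mul_inv_eq_iff_eq_mul] at this
  exact this.symm

theorem cz (s : Sy σ) (h : PD u) : Cj (σ z) (σ u) := by
  rcases pd_cls u h with rfl | ⟨k, -, c⟩
  exacts [Cj.refl _, s.dt.trans (Act.of_cj σ c).cj]

theorem pda (s : Sy σ) (h : PD u) (a : Act σ g u w) : PD w := s.pd ((s.cz h).trans a.cj)

theorem normW (s : Sy σ) (h : ∀ x, PD x → ∃ x', Act σ g x x') : g ∈ 𝐍(W0.map σ) :=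
  norm_map fun e he => by
    rcases W_gen e he with rfl | c | ⟨x, hx, y, hy, -, rfl⟩
    · exact ⟨1, one_mem _, Act.one σ g⟩
    · obtain ⟨x', a⟩ := h e c
      exact ⟨x', (pd_W _ (s.pda c a)).1, a⟩
    · obtain ⟨x', a⟩ := h x hx
      obtain ⟨y', b⟩ := h y hy
      exact ⟨_, mul_mem (pd_W _ (s.pda hx a)).1 (pd_W _ (s.pda hy b)).1, a.mul b⟩

theorem TW (s : Sy σ) (u : E) : σ u ∈ 𝐍(W0.map σ) := s.normW fun x _ => ⟨_, Act.self σ u x⟩

theorem two (s : Sy σ) (hu : PD u) (hw : PD w) (h : u ≠ w) :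
    ∃ n ∈ 𝐍(W0.map σ), Act σ n u z ∧ Act σ n w t := by
  obtain ⟨n, hn, a⟩ : ∃ n ∈ 𝐍(W0.map σ), Act σ n u z := by
    rcases pd_cls u hu with rfl | ⟨k, -, c⟩
    · exact ⟨1, one_mem _, by simp [Act]⟩
    obtain ⟨g, e⟩ := s.dt.symm
    obtain ⟨g, h1, h2⟩ := s.extz e
    exact ⟨_, mul_mem (s.normW fun x hx => h2 x (W_comm x (pd_W x hx).1 t (pd_W t pd_t).1))
      (inv_mem (s.TW k)), (Act.of_cj σ c).symm.trans h1⟩
  obtain ⟨w', -, b⟩ := act_of_norm hn (pd_W w hw).1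
  obtain ⟨k, -, c⟩ := (pd_cls w' (s.pda hw b)).resolve_left fun c => h (s.eq' a (c ▸ b))
  exact ⟨_, mul_mem (inv_mem (s.TW k)) hn, a.trans (actz σ k).symm, b.trans (Act.of_cj σ c).symm⟩

theorem toe1 (s : Sy σ) (hw : w ∈ W0) (h1 : w ≠ 1) (h : ¬ PD w) :
    ∃ n ∈ 𝐍(W0.map σ), Act σ n w e1 := by
  have k : ∀ w ∈ W0, w ≠ 1 → ¬ PD w → ∃ n ∈ 𝐍(W0.map σ), Act σ n w (z * t) := fun w hw h1 h => by
    obtain ⟨x, hx, y, hy, c, rfl⟩ := ((W_gen w hw).resolve_left h1).resolve_left h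
    obtain ⟨n, hn, a, b⟩ := s.two hx hy c
    exact ⟨n, hn, a.mul b⟩
  obtain ⟨n, hn, a⟩ := k w hw h1 h
  obtain ⟨m, hm, b⟩ := k e1 (by decide +kernel) (by decide +kernel) (by decide +kernel)
  exact ⟨_, mul_mem (inv_mem hm) hn, a.trans b.symm⟩

/-- Thompson's transfer lemma -/
theorem thom (s : Sy σ) (h : Idx D w) (hu : u * u = 1) :
    (∃ e ∈ W0, Cj (σ u) (σ e)) ∨ Cj (σ u) (σ w) := by
  have hR : pResidual 2 G = ⊤ :=
    (IsSimpleGroup.eq_bot_or_eq_top_of_normal _ inferInstance).resolve_left fun e =>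
      s.not_cen fun g => mem_c.1 (range_c (s.syl.le_of_le_normalizer
        (isPGroup_of_res_eq_bot (res_top.trans e)) le_rfl (le_top.trans le_normalizer) (mem_top g)))
  have h1 := h.1
  obtain ⟨g, ⟨x, hx, e⟩, -⟩ := exists_conj_mem_of_le2 s.syl (A := (El.sub (In D) ⟨h1, fun u hu =>
    ⟨by have := h.mul u u⁻¹; rw [mul_inv_cancel] at this; tauto,
      fun v hv => (h.mul u v).2 (iff_of_true hu hv)⟩⟩).map σ) (by
    rw [MonoidHom.range_eq_map]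
    exact le2_map fun u _ w _ => (show In D u ∨ In D w ∨ In D (u * w) by
      have := h.mul u w; tauto)) ⟨u, rfl⟩ (by rw [← map_mul, hu, map_one]) (hR.ge (mem_top _))
  rcases h.2.2 x (s.sq e.symm hu) hx with c | ⟨k, -, c⟩
  exacts [Or.inl ⟨x, c, g, e.symm⟩, Or.inr (Cj.trans ⟨g, e.symm⟩ (Act.of_cj σ c).cj.symm)]

theorem fz (s : Sy σ) (hu : u * u = 1) : ∃ e ∈ W0, Cj (σ u) (σ e) := by
  by_contra hn
  obtain ⟨P, hP⟩ := s.syl.exists_sylow_top
  refine (Cfsg.Agent.S1169.result P (W0.map σ)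
    (fun e => ne_one_of_ord2 (s.ord z2) (e.le (mem_map_of_mem σ (pd_W z pd_z).1))) ⟨⟨?_⟩⟩
    ⟨hP ▸ map_le_range σ _, ?_⟩).elim (fun h => ?_) fun ⟨H, hH⟩ => ?_
  · rintro ⟨_, e, he, rfl⟩ ⟨_, f, hf, rfl⟩
    exact Subtype.ext (mem_c.1 (mapc (W_comm e he f hf)))
  · rintro _ ⟨e, he, rfl⟩ g hg
    obtain ⟨w, a⟩ := hP.le hg
    have k : ∀ {D y}, Idx D y → ∀ l, l * y * l⁻¹ ≠ w := fun h l c => hn ⟨e, he,
      (((s.thom h hu).resolve_left hn).trans (Act.of_cj σ c).cj).trans (Cj.symm ⟨g, a.symm⟩)⟩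
    rcases inv_cls w (s.sq a.symm (W_sq e he)) with c | ⟨l, -, c | c | c⟩
    exacts [⟨w, c, a⟩, absurd c (k idxA l), absurd c (k idxB l), absurd c (k idxC l)]
  · exact absurd (s.inj (by
      rw [map_mul, map_mul]
      exact congrArg Subtype.val (h.is_comm.comm ⟨σ c, hP.ge ⟨c, rfl⟩⟩ ⟨σ d, hP.ge ⟨d, rfl⟩⟩)) :
      c * d = d * c) (by decide +kernel)
  · obtain ⟨g, e⟩ := isConj_iff.1 (H42.SE.isConj hH (s.ord z2)
      (s.ord (u := e1) (by decide +kernel)))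
    exact absurd (s.pd ⟨g, e⟩) (by decide +kernel)

/-- two classes of involutions -/
theorem cls (s : Sy σ) (hu : u * u = 1) (h1 : u ≠ 1) (h : ¬ PD u) : Cj (σ u) (σ e1) := by
  obtain ⟨e, he, g, a⟩ := s.fz hu
  obtain ⟨n, -, b⟩ := s.toe1 he (s.ne a h1) fun c => h (s.pda c (Act.symm a))
  exact Cj.trans ⟨g, a⟩ b.cj

theorem cls' (s : Sy σ) {x : G} (hx : orderOf x = 2) : Cj (σ z) x ∨ Cj (σ e1) x := by
  obtain ⟨k, -, u, e⟩ := exists_cj_mem2 s.syl (mem_top x) (mul_self_of_ord2 hx)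
  have c : Cj (σ u) x := Cj.symm ⟨k, e.symm⟩
  by_cases h : PD u
  · exact Or.inl ((s.cz h).trans c)
  · exact Or.inr ((s.cls (s.inj (by
      rw [map_mul, map_one]; exact c.symm.sq (mul_self_of_ord2 hx)))
      (fun f => c.symm.ne (ne_one_of_ord2 hx) (by rw [f, map_one])) h).symm.trans c)

/-- `Q` is strongly closed with respect to the centraliser of `z` -/
theorem sc (s : Sy σ) (hz : Act σ g z z) (hu : u ∈ Q0) (h : Act σ g u w) : w ∈ Q0 := by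
  refine (Q_sq u hu).elim (fun h2 => ?_) (s.sc4 hz hu h)
  rcases inv_Q w (s.sq h h2) with c | c | c
  · exact c
  · exact s.eq hz (pd_Q u (s.pda c h.symm) hu ▸ h) ▸ zQ
  · have := pd_Q _ (s.pda c (h.mul hz).symm) (mul_mem hu zQ)
    exact s.eq (Act.one σ g) (mul_eq_right.1 this ▸ h) ▸ one_mem _

theorem ee (σ : E →* G) : σ e1 * σ e1 = 1 := by
  rw [← map_mul, (by decide +kernel : e1 * e1 = 1), map_one]

/-- the centraliser of `e₁` -/
theorem cw (s : Sy σ) : 𝐂₀(σ e1) ≤ Oc (σ e1) ⊔ NZ (σ e1) (σ t) (ee σ) := by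
  have te : t * e1 = e1 * t := by decide +kernel
  have m : σ e1 ∈ NZ (σ e1) (σ t) (ee σ) := ⟨by simp, Or.inl (actc.2 (mapc te.symm))⟩
  obtain ⟨O, h1, h2, h3, h4⟩ := zq (K := NZ (σ e1) (σ t) (ee σ)) (N := zpowers (σ e1)) s.sylw
    (zpowers_le.2 (mem_map_of_mem σ (mem_c.2 rfl)))
    (le_normalizer_of_le_centralizer (centralizer_zpowers _).ge) (mem_map_of_mem σ (mem_c.2 te))
    (fun c => ((mem_zpowers_of_mul_self (ee σ)).1 c).elim
      (ne_one_of_ord2 (s.ord (by decide +kernel))) (s.inj.ne (by decide +kernel)))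
    (by rw [← map_mul, (by decide +kernel : t * t = 1), map_one]; exact one_mem _)
    (fun g hg ⟨x, _, e⟩ => by
      rw [← e, ← map_inv, ← map_mul]
      rcases pd_pair x (s.pda pd_t e.symm) (s.pda (by decide +kernel)
        (Act.mul e.symm (actc.2 hg))) with rfl | rfl
      · rw [mul_inv_cancel, map_one]; exact one_mem _
      · rw [te, mul_inv_cancel_right]; exact mem_zpowers _)
    fun g hg e => ⟨actc.2 hg, ((mem_zpowers_of_mul_self (ee σ)).1 e).imp mul_inv_eq_one.1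
      fun c => (mul_inv_eq_iff_eq_mul.1 c).trans (mem_c.1 (mapc te)).symm⟩
  exact h4.trans (sup_le ((burn2 (ee σ) h3 h1 h2 h1).trans
    (sup_le_sup_left (zpowers_le.2 m) _)) le_sup_right)

end Sy

end H70.U52
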