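import Mathlib
import Cfsg.Agent.Base
import Cfsg.Agent.Lib.U52.Fus
import Cfsg.Agent.Lib.Gold.Top

/-!
# Groups with a Sylow 2-subgroup of type `U₅(2)`: the centraliser of `z` (helper70)
-/

set_option autoImplicit false
set_option maxRecDepth 100000
set_option synthInstance.maxSize 4000

namespace H70.U52

open Subgroup H69 Cfsg Gold H70.TM

theorem comm_iff_sq {G : Type*} [Group G] {p q : G} :
    p * q = q * p ↔ p * q * (p * q) = p * p * (q * q) := by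
  rw [mul_assoc, mul_assoc, mul_right_inj, ← mul_assoc, ← mul_assoc, mul_left_inj, eq_comm]

theorem cm_of_iff {x y v : E} (hx : x ∈ Q0) (hy : y ∈ Q0) (hv : v ∈ Q0)
    (h : x * v = v * x ↔ y * v = v * y) : v * (x⁻¹ * y) = x⁻¹ * y * v := by
  have n : v * z ≠ v := fun e => z2.2 (mul_eq_left.1 e)
  have : y * v * y⁻¹ = x * v * x⁻¹ := by
    rw [← cj_eq_iff', ← cj_eq_iff'] at h
    rcases Q_comm x hx v hv with c | c <;> rcases Q_comm y hy v hv with d | d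
    exacts [d.trans c.symm, absurd (d.symm.trans (h.1 c)) n, absurd (c.symm.trans (h.2 d)) n,
      d.trans c.symm]
  exact (cj_eq_iff'.1 (cj_trans this (cj_symm rfl))).symm

theorem nofac {Y : Type*} [Group Y] [Finite Y] {ψ : E →* Y} (k1 : ∀ u, ψ u = 1 ↔ u = 1 ∨ u = z)
    (hsq : ∀ y p p', p ∈ Q0 → Act ψ y p p' → p' * p' = p * p) (cx : Ctx (Q0.map ψ) ⊤)
    (C : Subgroup Y) : ¬ IsFac (ncl (Q0.map ψ) ⊤) C := fun hC => by
  set A := Q0.map ψ with hA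
  set K := ncl A ⊤ with hK
  obtain ⟨V, mV⟩ : ∃ V : Subgroup E, ∀ {x}, x ∈ V ↔ x ∈ Q0 ∧ ψ x ∈ C :=
    ⟨Q0 ⊓ C.comap ψ, Iff.rfl⟩
  obtain ⟨P, mP⟩ : ∃ P : Subgroup E, ∀ {x}, x ∈ P ↔
      (x ∈ Q0 ∧ ψ x ∈ LC K C) ∧ ∀ v ∈ V, v * x = x * v :=
    ⟨Q0 ⊓ (LC K C).comap ψ ⊓ 𝐂(V), Iff.rfl⟩
  have PQ : ∀ {x}, x ∈ P → x ∈ Q0 := fun h => (mP.1 h).1.1
  have PV : ∀ {x}, x ∈ P → ∀ v ∈ V, v * x = x * v := fun h => (mP.1 h).2
  have z1 : ψ z = 1 := (k1 z).2 (Or.inr rfl)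
  have zV : z ∈ V := mV.2 ⟨zQ, z1 ▸ one_mem _⟩
  have zP : z ∈ P := mP.2 ⟨⟨zQ, z1 ▸ one_mem _⟩, fun v _ => zc v⟩
  have hc : ∀ {y p p' q q'}, p ∈ Q0 → q ∈ Q0 → Act ψ y p p' → Act ψ y q q' → p * q = q * p →
      p' * q' = q' * p' := fun {y p p' q q'} hp hq a b e => by
    rw [comm_iff_sq] at e ⊢
    rw [hsq _ _ _ (mul_mem hp hq) (a.mul b), hsq _ _ _ hp a, hsq _ _ _ hq b, e]
  have key : ∀ x ∈ Q0, ψ x ∉ C → ∀ y ∈ Q0, ψ y ∉ C →
      ∃ x' ∈ Q0, x' * x' = x * x ∧ x' * y⁻¹ ∈ V ∧ x⁻¹ * x' ∈ P := fun x hx h1 y hy h2 => by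
    obtain ⟨g, hg, -, e⟩ := cx.trans hC (mem_map_of_mem ψ hx) h1 (mem_map_of_mem ψ hy) h2
    obtain ⟨g1, g2⟩ := mem_inf.1 hg
    obtain ⟨x', hx', a⟩ := act_of_norm g2 hx
    refine ⟨x', hx', hsq _ _ _ hx a, mV.2 ⟨mul_mem hx' (inv_mem hy), ?_⟩,
      mP.2 ⟨⟨mul_mem (inv_mem hx) hx', ?_⟩, fun v hv => ?_⟩⟩
    · rwa [map_mul, map_inv, ← a.eq]
    · rw [map_mul, map_inv, ← a.eq, ← mul_assoc, ← mul_assoc]
      exact mul_mem (conj_mem_of_mem_normalizer' (hC.norm_LC' (cx.le_K (mem_map_of_mem ψ hx))) g1)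
        (inv_mem g1)
    · obtain ⟨v1, v2⟩ := mV.1 hv
      have m : ψ v ∈ A := mem_map_of_mem ψ v1
      have b : Act ψ g v v := mul_inv_eq_one.1 (((Od_odd K).inf_eq_bot cx.two).le (mem_inf.2
        ⟨cx.comm_LC_inf hC (commutator_mem_commutator g1 (mem_inf.2 ⟨m, v2⟩)),
          mul_mem (conj_mem_of_mem_normalizer g2 m) (inv_mem m)⟩))
      exact cm_of_iff hx hx' v1 ⟨hc hx v1 a b, hc hx' v1 a.symm b.symm⟩
  have k2 : ∀ x ∈ Q0, ∃ v ∈ V, ∃ p ∈ P, x = v * p := fun x hx => by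
    by_cases h : ψ x ∈ C
    · exact ⟨x, mV.2 ⟨hx, h⟩, 1, one_mem _, (mul_one x).symm⟩
    obtain ⟨_, ⟨y, hy, rfl⟩, h1, h2⟩ := exists_not_mem_two cx.ea (cx.four_le hC) (mem_map_of_mem ψ hx)
    obtain ⟨y', -, -, a, b⟩ := key y hy h1 (x * y) (mul_mem hx hy) (by rwa [map_mul])
    refine ⟨_, inv_mem a, y * (y⁻¹ * y') * y⁻¹, ?_, by group⟩
    rcases Q_comm y hy _ (PQ b) with c | c <;> rw [c]
    exacts [b, mul_mem b zP]
  have k3 : ∀ p ∈ P, (∀ q ∈ P, q * p = p * q) → p = 1 ∨ p = z := fun p hp h => cen p fun g hg => by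
    obtain ⟨v, hv, q, hq, rfl⟩ := k2 g (gQ_mem g hg)
    exact (comm_mul (PV hp v hv).symm (h q hq).symm).symm
  have k4 : ∀ p ∈ P, p ∈ V → p = 1 ∨ p = z := fun p hp h => k3 p hp fun q hq => (PV hq p h).symm
  have k5 : ∀ p ∈ P, p ∉ V → ∀ q ∈ P, q ∉ V → p * p = q * q := fun p hp h1 q hq h2 => by
    obtain ⟨p', -, a, b, c⟩ := key p (PQ hp) (fun e => h1 (mV.2 ⟨PQ hp, e⟩)) q (PQ hq)
      fun e => h2 (mV.2 ⟨PQ hq, e⟩)
    rcases k4 _ (mul_mem (by simpa using mul_mem hp c) (inv_mem hq)) b with d | d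
    · rw [← a, mul_inv_eq_one.1 d]
    · rw [← a, mul_inv_eq_iff_eq_mul.1 d, ← zc q, comm_iff_sq.1 (zc q), z2.1, mul_one]
  obtain ⟨p, hp, q, hq, n⟩ : ∃ p ∈ P, ∃ q ∈ P, q * p ≠ p * q := by
    by_contra! h
    refine cx.not_le hC ?_
    rintro _ ⟨x, hx, rfl⟩
    obtain ⟨v, hv, p, hp, rfl⟩ := k2 x hx
    rcases k3 p hp (h p hp) with rfl | rfl
    exacts [(mV.1 (mul_mem hv (one_mem _))).2, (mV.1 (mul_mem hv zV)).2]
  have pV : p ∉ V := fun h => n (PV hq p h).symm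
  have qV : q ∉ V := fun h => n (PV hp q h)
  have k6 : ∀ x ∈ P, x ∉ V → x * x = z := fun x hx h => (Q_sq x (PQ hx)).resolve_left fun e => n (by
    rw [comm_iff_sq, k5 _ (mul_mem hq hp) (fun h => n (mul_left_cancel (a := q)
      ((PV hq _ h).symm.trans (mul_assoc _ _ _)))) x hx h, k5 p hp pV x hx h, k5 q hq qV x hx h, e,
      mul_one])
  have hK' : K ^ᶜ ψ c = K := cj_eq_of_mem_normalizer (le_normalizer_ncl A ⊤ (mem_top _))
  have k0 : ∀ x ∈ Q0, ψ x ∈ C ^ᶜ ψ c → ∀ y ∈ P, x * (c * y * c⁻¹) = c * y * c⁻¹ * x :=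
    fun x hx h y hy => by
      have := cj_comm c (PV hy (c⁻¹ * x * c) (mV.2 ⟨Normal.conj_mem' inferInstance x hx c, by
        rwa [map_mul, map_mul, map_inv, ← mem_cj]⟩))
      simpa only [mul_assoc, mul_inv_cancel_left, mul_inv_cancel, mul_one] using this
  by_cases e : C = C ^ᶜ ψ c
  · have k7 : ∀ x ∈ P, c * x * c⁻¹ * x⁻¹ ∈ P := fun x hx => mul_mem (mP.2
      ⟨⟨Normal.conj_mem inferInstance x (PQ hx) c, by
        rw [map_mul, map_mul, map_inv, e, ← hK', ← LC_cj]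
        exact cj_mem _ (mP.1 hx).1.2⟩, fun v hv => k0 v (mV.1 hv).1 (e ▸ (mV.1 hv).2) x hx⟩)
      (inv_mem hx)
    have k8 : ∀ x ∈ P, ¬ (x * x = 1 ∧ x ≠ 1 ∧ x ≠ z) := fun x hx h =>
      z2.2 ((k6 x hx fun e => (k4 x hx e).elim h.2.1 h.2.2).symm.trans h.1)
    exact (pl1 p (PQ hp) (k6 p hp pV) _ rfl).elim (k8 _ (k7 p hp)) fun h =>
      k8 _ (k7 _ (k7 p hp)) (h _ rfl)
  · have k7 : ∀ x ∈ P, ∀ y ∈ P, c * y * c⁻¹ * x = x * (c * y * c⁻¹) := fun x hx y hy =>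
      (k0 x (PQ hx) (hC.LC_le_of_ne cx.ft (hK' ▸ hC.cj (ψ c)) e (mP.1 hx).1.2) y hy).symm
    exact n (pl2 p (PQ hp) (k6 p hp pV) (k7 p hp p hp) q (PQ hq) (k6 q hq qV)
      (k7 q hq q hq) (k7 q hq p hp) (k7 p hp q hq)).symm

variable {G : Type*} [Group G] [Finite G] {σ : E →* G}

theorem Sy.loc (s : Sy σ) (hz : ∀ g, g * σ z = σ z * g)
    (sc : ∀ g u w, u ∈ Q0 → Act σ g u w → w ∈ Q0) : Od ⊤ ⊔ 𝐍(Q0.map σ) = ⊤ := by
  have hZ : (zpowers (σ z)).Normal := normalizer_eq_top_iff.1 (top_le_iff.1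
    (le_normalizer_of_le_centralizer fun g _ => by rw [centralizer_zpowers]; exact mem_c.2 (hz g)))
  set π := QuotientGroup.mk' (zpowers (σ z)) with hπ
  have sj : Function.Surjective π := QuotientGroup.mk'_surjective _
  have k1 : ∀ x, π x = 1 ↔ x = 1 ∨ x = σ z := fun x =>
    (QuotientGroup.eq_one_iff x).trans (mem_zpowers_of_mul_self (zz σ))
  have k2 : ∀ g p p', Act (π.comp σ) (π g) p p' → Act σ g p p' ∨ Act σ g p (p' * z) :=
    fun g p p' e => ((k1 ((σ p')⁻¹ * (g * σ p * g⁻¹))).1 (by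
      rw [map_mul, map_mul, map_mul, map_inv, map_inv, inv_mul_eq_one]; exact e.eq.symm)).imp
      (fun c => (inv_mul_eq_one.1 c).symm) fun c => (inv_mul_eq_iff_eq_mul.1 c).trans
        (map_mul σ p' z).symm
  have k3 : ∀ g p p', p ∈ Q0 → Act (π.comp σ) (π g) p p' → p' ∈ Q0 := fun g p p' hp e =>
    (k2 g p p' e).elim (sc g p p' hp) fun c => (mul_mem_cancel_right zQ).1 (sc g p _ hp c)
  have k4 : ∀ u, π.comp σ u = 1 ↔ u = 1 ∨ u = z := fun u =>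
    (k1 (σ u)).trans (or_congr (map_eq_one_iff σ s.inj) s.inj.eq_iff)
  obtain ⟨S, hS⟩ := (map_top_of_surjective π sj ▸ s.syl.map π).exists_sylow_top
  have le : Q0.map (π.comp σ) ≤ S := by
    rintro _ ⟨u, -, rfl⟩; exact hS.ge (mem_map_of_mem π ⟨u, rfl⟩)
  have cx : Ctx (Q0.map (π.comp σ)) ⊤ := ctx (ea_of_sq (by
      rintro _ ⟨u, hu, rfl⟩
      rw [← map_mul, k4]; exact Q_sq u hu)) ((sc_top_iff S le).2 ⟨le, by
    rintro _ ⟨u, hu, rfl⟩ g hg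
    obtain ⟨g, rfl⟩ := sj g
    obtain ⟨_, ⟨w, rfl⟩, e⟩ := hS.le hg
    exact ⟨w, k3 g u w hu e.symm, e⟩⟩)
  have a := cx.eq_of_no_fac (nofac k4 (fun y p p' hp e => by
    obtain ⟨g, rfl⟩ := sj y
    have : Act σ g (p * p) (p * p) := by
      rcases Q_sq p hp with c | c <;> rw [c]
      exacts [Act.one σ g, cj_eq_iff'.2 (hz g)]
    rcases k2 g p p' e with c | c
    · exact s.eq (c.mul c) this
    · rw [← s.eq (c.mul c) this, comm_iff_sq.1 (zc p'), z2.1, mul_one]) cx)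
  have b := cx.sc.ncl_sup cx.two
  rw [← a, top_inf_eq, sup_assoc, sup_eq_right.2 le_normalizer] at b
  refine eq_top_iff.2 fun g _ => ?_
  obtain ⟨o, ho, n, hn, e⟩ := (mem_sup_of_le_normalizer_left (le_top.trans (le_norm_Od ⊤))).1
    ((sup_le_sup_right (Od_le_Od le_top (le_normalizer_ncl _ ⊤)) _) (b.ge (mem_top (π g))))
  obtain ⟨o, rfl⟩ := sj o
  have n' : ((Od ⊤).comap π).Normal :=
    (normalizer_eq_top_iff.1 (top_le_iff.1 (le_norm_Od ⊤))).comap π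
  have y := syl_comap π (by
    rw [hπ, QuotientGroup.ker_mk']; exact (El2.of_mul_self (zz σ)).isPGroup) (Od_odd ⊤)
  rw [show π.ker = zpowers (σ z) from QuotientGroup.ker_mk' _] at y
  have := mul_mem (sup_le_sup_left (zpowers_le.2 (le_normalizer (mem_map_of_mem σ zQ))) _
    (burn2 (zz σ) y le_top le_normalizer_of_normal (fun g _ => mem_c.2 (hz g)) ho))
    (mem_sup_right (norm_map (g := o⁻¹ * g) fun p hp => by
      obtain ⟨p', hp', c⟩ := act_of_norm hn hp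
      exact (k2 (o⁻¹ * g) p p' (by rwa [map_mul, map_inv, e, inv_mul_cancel_left])).elim
        (fun c => ⟨_, hp', c⟩) fun c => ⟨_, mul_mem hp' zQ, c⟩))
  rwa [mul_inv_cancel_left] at this

/-- the centraliser of `z` -/
theorem Sy.cq [IsSimpleGroup G] (s : Sy σ) : 𝐂₀(σ z) ≤ Oc (σ z) ⊔ 𝐍(Q0.map σ) := fun g hg => by
  let τ : E →* 𝐂₀(σ z) := σ.codRestrict _ fun u => range_c ⟨u, rfl⟩
  have a := Sy.loc (σ := τ) ⟨fun u w e => s.inj (congrArg Subtype.val e), by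
      rw [show τ.range = σ.range.subgroupOf _ from Subgroup.ext fun x =>
        exists_congr fun u => Subtype.ext_iff]
      exact (s.syl.mono range_c le_top).subgroupOf_top⟩
    (fun g => Subtype.ext (mem_c.1 g.2))
    fun g u w hu e => s.sc (actc.2 g.2) hu (congrArg Subtype.val e)
  have := mem_map_of_mem (𝐂₀(σ z)).subtype (a.ge (mem_top ⟨g, hg⟩))
  rw [Subgroup.map_sup, Od_top, map_subtype_normalizer, map_map] at this
  exact (sup_le_sup_left inf_le_right _ : _ ≤ Oc (σ z) ⊔ 𝐍(Q0.map σ)) this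

end H70.U52
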