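import Mathlib
import Cfsg.Agent.Base
import Cfsg.Agent.Lib.U52.NoFac

/-!
# Groups with a Sylow 2-subgroup of type `U₅(2)`: the involution centralisers (helper70)
-/

set_option autoImplicit false
set_option maxRecDepth 100000
set_option synthInstance.maxSize 4000

namespace H70.U52

open Subgroup H69 Cfsg Gold H70.TM
open scoped commutatorElement

variable {G : Type*} [Group G] [Finite G] {σ : E →* G} {g k : G} {u w u' w' e : E} {D : ℕ}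

theorem nrel {X K C : Subgroup G} (h1 : X ≤ 𝐍(K)) (h2 : X ≤ 𝐍(C)) :
    X ≤ 𝐍(H2.relCentralizer K C) := fun _ hx => cj_eq_self_iff.1 (by
  rw [relCent_cj, cj_eq_of_mem_normalizer (h1 hx), cj_eq_of_mem_normalizer (h2 hx)])

omit [Finite G] in
theorem solv_cj {x y : G} (h : Cj y x) (hy : Group.IsSolvable 𝐂₀(y)) : Group.IsSolvable 𝐂₀(x) := by
  obtain ⟨g, rfl⟩ := h
  rw [← cj_centralizer_singleton]
  exact H1.isSolvable_map hy _

theorem TQ (σ : E →* G) : σ.range ≤ 𝐍(Q0.map σ) := by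
  rintro _ ⟨u, rfl⟩
  exact norm_map fun p hp => ⟨_, Normal.conj_mem inferInstance p hp u, Act.self σ u p⟩

omit [Finite G] in
theorem two_range (σ : E →* G) : IsPGroup 2 σ.range := MonoidHom.range_eq_map σ ▸ two_map σ ⊤

omit [Finite G] in
theorem cQ_le : 𝐂(Q0.map σ) ≤ 𝐂₀(σ z) := fun _ hg => mem_c.2 (hg _ (mem_map_of_mem σ zQ)).symm

omit [Finite G] in
theorem z_cQ (σ : E →* G) : σ z ∈ 𝐂(Q0.map σ) := by
  rintro _ ⟨p, -, rfl⟩; exact mem_c.1 (mapc (zc p))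

namespace Sy

theorem cQ (s : Sy σ) : 𝐂(Q0.map σ) ≤ Od 𝐂(Q0.map σ) ⊔ zpowers (σ z) := by
  have := (s.syl.mono (TQ σ) le_top).inf_normal (centralizer_le_normalizer _)
    (le_normalizer_centralizer le_rfl)
  rw [show σ.range ⊓ 𝐂(Q0.map σ) = zpowers (σ z) from le_antisymm (by
    rintro _ ⟨⟨u, rfl⟩, h⟩
    rcases cen u fun g hg => s.comm' (mem_c.2 (h _ (mem_map_of_mem σ (gQ_mem g hg)))) with rfl | rfl
    exacts [map_one σ ▸ one_mem _, mem_zpowers _]) (zpowers_le.2 ⟨⟨z, rfl⟩, z_cQ σ⟩)] at this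
  exact burn2 (zz σ) this le_rfl le_normalizer cQ_le

variable [IsSimpleGroup G]

theorem nqz (s : Sy σ) (hg : g ∈ 𝐍(Q0.map σ)) : Act σ g z z := by
  obtain ⟨u, hu, a⟩ := act_of_norm hg zQ
  exact pd_Q u (s.pda pd_z a) hu ▸ a

theorem solv3 (s : Sy σ) : Group.IsSolvable (𝐍(Q0.map σ) ⊓ 𝐍(W0.map σ) : Subgroup G) := by
  set N := 𝐍(Q0.map σ) ⊓ 𝐍(W0.map σ)
  have T : σ.range ≤ N := le_inf (TQ σ) (by rintro _ ⟨u, rfl⟩; exact s.TW u)
  have n0 : N ≤ 𝐍(zpowers (σ z)) := le_normalizer_of_le_centralizer fun g hg => by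
    rw [centralizer_zpowers]; exact actc.1 (s.nqz hg.1)
  have n1 : N ≤ 𝐍(Q0.map σ ⊓ 𝐂(W0.map σ)) :=
    le_normalizer_inf inf_le_left (le_normalizer_centralizer inf_le_right)
  have n2 : N ≤ 𝐍(Q0.map σ ⊓ W0.map σ) := le_normalizer_inf inf_le_left inf_le_right
  set J := N ⊓ (𝐂(zpowers (σ z)) ⊓ H2.relCentralizer (Q0.map σ ⊓ W0.map σ) (zpowers (σ z)) ⊓
    H2.relCentralizer (Q0.map σ ⊓ 𝐂(W0.map σ)) (Q0.map σ ⊓ W0.map σ) ⊓
    H2.relCentralizer (Q0.map σ) (Q0.map σ ⊓ 𝐂(W0.map σ)))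
  have TJ : σ.range ≤ J := by
    rintro _ ⟨u, rfl⟩
    refine le_of_gT (K := J.comap σ) (fun g hg => ?_) u
    have m := T ⟨g, rfl⟩
    have c := fun p hp => frc_eq _ _ ▸ chain g hg p hp
    have e : ∀ p, ⁅σ g, σ p⁆ = σ (g * p * g⁻¹ * p⁻¹) := fun p => (map_commutatorElement σ g p).symm
    refine ⟨m, ⟨⟨?_, n0 m, ?_⟩, n2 m, ?_⟩, n1 m, ?_⟩
    · rw [centralizer_zpowers]; exact mapc (zc g)
    · rintro _ ⟨⟨p, hp, rfl⟩, h⟩
      rw [e]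
      rcases (c p hp).2.2 (s.mem.1 h) with d | d <;> rw [d]
      exacts [map_one σ ▸ one_mem _, mem_zpowers _]
    · rintro _ ⟨⟨p, hp, rfl⟩, h⟩
      rw [e]
      exact ⟨mem_map_of_mem σ (c p hp).1.1, mem_map_of_mem σ ((c p hp).2.1
        (s.comm' (mem_c.2 (h _ (mem_map_of_mem σ (pd_W t pd_t).1)).symm)))⟩
    · rintro _ ⟨p, hp, rfl⟩
      rw [e]
      refine ⟨mem_map_of_mem σ (c p hp).1.1, ?_⟩
      rintro _ ⟨f, hf, rfl⟩
      exact mem_c.1 (mapc ((by decide +kernel : ∀ x ∈ Q0, x * t = t * x → ∀ f ∈ W0, f * x = x * f)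
        _ (c p hp).1.1 (c p hp).1.2 f hf))
  have r : 𝐑(2, J) ≤ 𝐂(Q0.map σ) := res_le_iff.2 fun g hg o =>
    H59.mem_centralizer_of_coprime (two_map σ _).to_inf_left o
      (H59.mem_centralizer_of_coprime (two_map σ _).to_inf_left o
        (H59.mem_centralizer_of_coprime (El2.of_mul_self (zz σ)).isPGroup o hg.2.1.1.1 hg.2.1.1.2.2)
        hg.2.1.2.2) hg.2.2.2
  exact solv_of_syl (s.syl.mono T le_top) TJ inf_le_left (le_normalizer_inf le_normalizer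
    (le_normalizer_inf (le_normalizer_inf (le_normalizer_inf (le_normalizer_centralizer n0)
      (nrel n2 n0)) (nrel n1 n2)) (nrel inf_le_left n1)))
    (solv_sup (H1.isSolvable_of_le (solv_sup (solv_odd (Od_odd _))
      (solv2 (El2.of_mul_self (zz σ)).isPGroup) ((zpowers_le.2 (z_cQ σ)).trans (le_norm_Od _)) s.cQ) r)
      (solv2 (two_range σ)) (TJ.trans (le_normalizer_res J)) (s.syl.mono TJ le_top).res_sup.ge)

theorem solvQ (s : Sy σ) : Group.IsSolvable 𝐍(Q0.map σ) := by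
  obtain ⟨O, h1, h2, h3, h4⟩ := zq (K := 𝐍(Q0.map σ) ⊓ 𝐍(W0.map σ)) (t := σ t)
    (s.syl.mono (TQ σ) le_top) (map_le_range σ Q0) le_rfl ⟨t, rfl⟩
    (fun c => absurd (s.mem.1 c) (by decide +kernel))
    (by rw [← map_mul]; exact mem_map_of_mem σ (by decide +kernel))
    (fun g hg ⟨x, e⟩ => by
      rw [← e, ← map_inv, ← map_mul]
      rcases (pd_mul x (s.pda pd_t e.symm) t pd_t).2 with rfl | c | c
      exacts [absurd (s.eq' e.symm (s.nqz hg)) (by decide +kernel), absurd c (by decide +kernel),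
        mem_map_of_mem σ c])
    fun g hg ⟨q, _, e⟩ => ⟨hg, s.normW fun x hx => by
      rcases pd_cls x hx with rfl | ⟨k, hk, rfl⟩
      · exact ⟨z, s.nqz hg⟩
      obtain ⟨k', -, a⟩ := act_of_norm hg hk
      exact ⟨_, (a.mul (w' := q * t) (by rw [Act, map_mul, e, inv_mul_cancel_right])).mul a.inv⟩⟩
  exact solv_sup (solv_of_syl h3 le_rfl h3.le h1 (solv2 h3.isP)) s.solv3 (inf_le_left.trans h2) h4

theorem solvZ (s : Sy σ) : Group.IsSolvable 𝐂₀(σ z) :=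
  solv_sup (solv_odd (Oc_odd _)) s.solvQ (fun _ hg => cent_norm_Oc _ (actc.1 (s.nqz hg))) s.cq

theorem solvW (s : Sy σ) : Group.IsSolvable 𝐂₀(σ e1) := by
  have a1 : σ a * σ t * (σ a)⁻¹ = σ t * σ e1 := map_mul σ t e1 ▸ Act.of_cj σ (by decide +kernel)
  have a2 : σ a ∈ NZ (σ e1) (σ t) (ee σ) := ⟨Act.of_cj σ (by decide +kernel), Or.inr a1⟩
  refine solv_sup (solv_odd (Oc_odd _)) (solv_sup (K := NZ (σ e1) (σ t) (ee σ) ⊓ 𝐂₀(σ t))
    (H1.isSolvable_of_le (solv_cj s.dt s.solvZ) inf_le_right) (H2.isSolvable_zpowers (σ a))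
    (zpowers_le.2 (mem_normalizer_of_cj_le ?_)) fun g hg => ?_)
    (fun _ hg => cent_norm_Oc _ (actc.1 (mem_NZ.1 hg).1)) s.cw
  · rintro _ ⟨x, hx, rfl⟩
    refine mem_inf.2 ⟨mul_mem (mul_mem a2 hx.1) (inv_mem a2), mem_c.2 ?_⟩
    have := cj_comm (σ a) (comm_mul (mem_c.1 hx.2) (cj_eq_iff'.1 hx.1.1))
    rwa [← conj_mul (a := σ t), a1, a2.1, mul_assoc (σ t), ee, mul_one] at this
  · rcases hg.2 with c | c
    · exact mem_sup_left ⟨hg, actc.1 c⟩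
    · simpa using mul_mem (mem_sup_right (mem_zpowers (σ a))) (mem_sup_left (mem_inf.2
        ⟨mul_mem (inv_mem a2) hg, mem_c.2 (cj_eq_iff'.1 (cj_trans c (cj_symm a1)))⟩))

theorem sigE (s : Sy σ) {K : Subgroup E} [DecidablePred (· ∈ K)] (h2 : ∀ u ∈ K, u * u = 1) (h8 : 8 ≤ cn (· ∈ K)) :
    OddS (WO (K.map σ)) ∧ ∀ x ∈ K, ∀ y ∈ K, x ≠ 1 → y ≠ 1 → x ≠ y →
      W2 (σ x) (σ y) = WO (K.map σ) := by
  have ea : IsElementaryAbelian 2 (K.map σ) := ea_of_sq (by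
    rintro _ ⟨u, hu, rfl⟩; rw [← map_mul, h2 u hu, map_one])
  obtain ⟨a, b⟩ := sig2 ea (by rw [s.card]; exact h8.trans (cn_eq _).ge) fun x hx h1 =>
    (s.cls' (ord2 (ea_sq ea hx) h1)).elim (solv_cj · s.solvZ) (solv_cj · s.solvW)
  exact ⟨a, fun x hx y hy x1 y1 e => b _ (mem_map_of_mem σ hx) _ (mem_map_of_mem σ hy)
    ((map_ne_one_iff σ s.inj).2 x1) ((map_ne_one_iff σ s.inj).2 y1) (s.inj.ne e)⟩

theorem sigW (s : Sy σ) : OddS (WO (W0.map σ)) ∧ ∀ x ∈ W0, ∀ y ∈ W0, x ≠ 1 → y ≠ 1 → x ≠ y →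
    W2 (σ x) (σ y) = WO (W0.map σ) := s.sigE W_sq (by decide +kernel)

theorem w2z (s : Sy σ) (h2 : u * u = 1) (h1 : u ≠ 1) (hz : u ≠ z) :
    W2 (σ z) (σ u) = WO (W0.map σ) := by
  have k : ∀ {D y e l}, Ea D y e → l * y * l⁻¹ = u → W2 (σ z) (σ u) = WO (W0.map σ) :=
    fun {D y e l} ⟨a, b, c, d, f, g, h, i, j, m, n⟩ o => by
      have := (@sigE _ _ _ _ _ s (El.sub (In D) a) (fun u => inferInstanceAs (Decidable (In D u))) b c).2
      rw [← (actz σ l).eq, ← (Act.of_cj σ o).eq, ← W2_cj, this z d y f z2.2 h i.symm,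
        ← this z d e g z2.2 j m.symm, s.sigW.2 z (pd_W z pd_z).1 e n z2.2 j m.symm,
        cj_eq_of_mem_normalizer (norm_WO _ (s.TW l))]
  rcases inv_cls u h2 with c | ⟨l, -, c | c | c⟩
  exacts [s.sigW.2 z (pd_W z pd_z).1 u c z2.2 h1 hz.symm, k eaA c, k eaB c, k eaC c]

theorem wo (s : Sy σ) : WO (W0.map σ) = ⊥ := by
  have k : ∀ {g x y x' y'}, Act σ g x x' → Act σ g y y' → W2 (σ x) (σ y) = WO (W0.map σ) →
      W2 (σ x') (σ y') = WO (W0.map σ) → g ∈ 𝐍(WO (W0.map σ)) := fun a b c d =>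
    cj_eq_self_iff.1 (by rw [← c, W2_cj, a.eq, b.eq, d, c])
  obtain ⟨e0, e2, e3, e4, e5⟩ : e1 * e1 = 1 ∧ e1 ≠ 1 ∧ e1 ≠ z ∧ e1 ∈ W0 ∧ ¬ PD e1 := by decide +kernel
  have o : ∀ x ∈ W0, x ≠ 1 → Oc (σ x) ≤ 𝐍(WO (W0.map σ)) := fun x hx h =>
    (le_WO (mem_map_of_mem σ hx) ((map_ne_one_iff σ s.inj).2 h)).trans le_normalizer
  have pe : ∀ x, PD x → W2 (σ x) (σ e1) = WO (W0.map σ) := fun x hx =>
    s.sigW.2 x (pd_W x hx).1 e1 e4 (pd_W x hx).2 e2 fun c => e5 (c ▸ hx)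
  have c1 : 𝐂₀(σ z) ≤ 𝐍(WO (W0.map σ)) := s.cq.trans (sup_le (o z (pd_W z pd_z).1 z2.2) fun g hg => by
    obtain ⟨u, -, a⟩ := act_of_norm hg (by decide +kernel : e1 ∈ Q0)
    exact k (s.nqz hg) a (pe z pd_z) (s.w2z (s.sq a e0) (s.ne a e2) fun c =>
      e3 (s.eq' a (c ▸ s.nqz hg))))
  have c2 : 𝐂₀(σ e1) ≤ 𝐍(WO (W0.map σ)) := s.cw.trans (sup_le (o e1 e4 e2) fun g hg =>
    hg.2.elim (fun c => k c hg.1 (pe t pd_t) (pe t pd_t)) fun c =>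
      k (c.trans (map_mul σ t e1).symm) hg.1 (pe t pd_t) (pe _ (by decide +kernel)))
  refine s.odd_bot (normalizer_eq_top_iff.1 (eq_top_of_cent s.syl (fun g hg => norm_WO _
    (s.normW fun x _ => let ⟨y, e⟩ := conj_mem_of_mem_normalizer hg ⟨x, rfl⟩; ⟨y, e.symm⟩)) ?_
    (s.ord z2) range_c ⟨e1, rfl⟩ (s.ord ⟨e0, e2⟩) fun g c => e5 (s.pd ⟨g, c⟩))) (oddS_iff.1 s.sigW.1)
  rintro _ ⟨w, rfl⟩ hw
  have w2 : w * w = 1 := s.inj (by rw [map_mul, map_one, mul_self_of_ord2 hw])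
  have w1 : w ≠ 1 := fun c => ne_one_of_ord2 hw (by rw [c, map_one])
  by_cases wz : w = z
  · exact wz ▸ c1
  by_cases h : PD w
  · obtain ⟨n, hn, a, -⟩ := s.two h pd_z wz
    exact a.symm.cent_le (inv_mem (norm_WO _ hn)) c1
  · obtain ⟨g, a⟩ := s.cls w2 w1 h
    obtain ⟨g, a, b⟩ := s.extw a
    obtain ⟨y, c⟩ := b z (zc w).symm
    exact a.symm.cent_le (inv_mem (k c a (s.w2z w2 w1 wz) (pe y (s.pda pd_z c)))) c2

theorem oc (s : Sy σ) (hu : u ∈ W0) (h : u ≠ 1) : Oc (σ u) = ⊥ :=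
  le_bot_iff.1 ((le_WO (mem_map_of_mem σ hu) ((map_ne_one_iff σ s.inj).2 h)).trans s.wo.le)

theorem cq' (s : Sy σ) : 𝐂₀(σ z) ≤ 𝐍(Q0.map σ) := by
  simpa only [s.oc (pd_W z pd_z).1 z2.2, bot_sup_eq] using s.cq

theorem cw' (s : Sy σ) : 𝐂₀(σ e1) ≤ NZ (σ e1) (σ t) (ee σ) := by
  simpa only [s.oc (u := e1) (by decide +kernel) (by decide +kernel), bot_sup_eq] using s.cw

theorem cQ' (s : Sy σ) : 𝐂(Q0.map σ) ≤ zpowers (σ z) :=
  s.cQ.trans (sup_le ((Od_le_Od cQ_le (le_normalizer_centralizer s.cq')).trans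
    ((s.oc (pd_W z pd_z).1 z2.2).le.trans bot_le)) le_rfl)

end Sy

end H70.U52
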