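import Mathlib
import Cfsg.Agent.Base
import Cfsg.Agent.Lib.U52.Facts

/-!
# The Sylow 2-subgroup of `U₅(2)`: Siegel transformations (helper70)
-/

set_option autoImplicit false
set_option maxRecDepth 100000
set_option synthInstance.maxSize 4000

namespace H70.U52

open Subgroup H70.TM

theorem sg_ord : ∀ u ∈ Q0, u * u = 1 → u ≠ 1 → u ≠ z → ∀ w ∈ Q0, w * w = 1 → w ≠ 1 → w ≠ z →
    u * w = w * u → u ≠ w → u * w ≠ z →
    (∀ g ∈ gQ, sf u w (sf u w g) = g ∨ sf u w (sf u w g) = g * z) ∨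
    ∀ g ∈ gQ, sf u w (sf u w (sf u w g)) = g ∨ sf u w (sf u w (sf u w g)) = g * z := by
  decide +kernel

end H70.U52
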