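import Mathlib
import Cfsg.Agent.Base
import Cfsg.Agent.Lib.U52.Loc
import Cfsg.Agent.Lib.U52.Sg
import Cfsg.Agent.S0280
import Cfsg.Agent.S1614

/-!
# Groups with a Sylow 2-subgroup of type `U₅(2)`: 3-transpositions (helper70)
-/

set_option autoImplicit false
set_option maxRecDepth 100000
set_option synthInstance.maxSize 4000

namespace H70.U52

open Subgroup H69 Cfsg Gold H70.TM
open scoped commutatorElement

variable {G : Type*} [Group G] {σ : E →* G} {g k x y : G} {u w u' w' p p' q q' : E}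

/-- conjugation modulo `z` -/
def Az (σ : E →* G) (g : G) (p p' : E) : Prop := Act σ g p p' ∨ Act σ g p (p' * z)

theorem zzr (p : E) : p * z * z = p := by rw [mul_assoc, z2.1, mul_one]

theorem Az.of (h : Az σ g p p') (e : p' = q ∨ p' = q * z) : Az σ g p q := by
  rcases e with rfl | rfl
  exacts [h, h.symm.imp_left fun c => c.of_eq ⟨rfl, zzr q⟩]

theorem Az.mul (h : Az σ g p p') (h' : Az σ g q q') : Az σ g (p * q) (p' * q') := by
  have e : p' * z * q' = p' * q' * z := by rw [mul_assoc, ← zc, mul_assoc]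
  rcases h with h | h <;> rcases h' with h' | h'
  exacts [Or.inl (h.mul h'), Or.inr ((h.mul h').of_eq ⟨rfl, (mul_assoc _ _ _).symm⟩),
    Or.inr ((h.mul h').of_eq ⟨rfl, e⟩),
    Or.inl ((h.mul h').of_eq ⟨rfl, by rw [← mul_assoc, e, zzr]⟩)]

theorem Az.trans (h : Az σ g p p') (h' : Az σ k p' q) (hk : Act σ k z z) : Az σ (k * g) p q := by
  rcases h with h | h <;> rcases h' with h' | h'
  exacts [Or.inl (h.trans h'), Or.inr (h.trans h'), Or.inr (h.trans (h'.mul hk)),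
    Or.inl (h.trans ((h'.mul hk).of_eq ⟨rfl, zzr q⟩))]

theorem Az.all (h : ∀ q ∈ gQ, Az σ g q q) : ∀ q ∈ Q0, Az σ g q q :=
  le_of_gQ (K := ⟨⟨⟨{q | Az σ g q q}, Az.mul⟩, Or.inl (Act.one σ g)⟩, fun {q} c => c.imp Act.inv
    fun c => c.inv.of_eq ⟨rfl, by rw [mul_inv_rev, inv_eq_of_mul_eq_one_right z2.1, zc]⟩⟩) h

theorem sg_mem (hu : u ∈ Q0) (hw : w ∈ Q0) (hq : q ∈ Q0) : sg u w q ∈ Q0 := by
  unfold sg
  split_ifs <;> simp only [mul_mem, one_mem, *]

theorem sf_eq (u w q : E) : sf u w q = t * sg u w q * t⁻¹ := frc_eq _ _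

theorem sq_of_comm (hx : x * x = 1) (hy : y * y = 1) (h : x * y = y * x) : (x * y) ^ 2 = 1 := by
  rw [pow_two, comm_iff_sq.1 h, hx, hy, mul_one]

namespace Sy

theorem sga (s : Sy σ) (a : Act σ g u u') (b : Act σ g w w') (c : Act σ g q q') :
    Act σ g (sg u w q) (sg u' w' q') := by
  have k : ∀ {u u' w w'}, Act σ g u u' → Act σ g w w' →
      Act σ g (if q * u = u * q then 1 else w) (if q' * u' = u' * q' then 1 else w') := fun a b => by
    split_ifs with h1 h2 h2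
    exacts [Act.one σ g, absurd (s.comm c a h1) h2, absurd (s.comm c.symm a.symm h2) h1, b]
  exact (c.mul (k a b)).mul (k b a)

variable [Finite G]

theorem pair (s : Sy σ) {L : Subgroup G} (hL : σ.range ≤ L) (hx : Cj (σ z) x) (hy : Cj (σ z) y)
    (h1 : x ∈ L) (h2 : y ∈ L) {a : ℕ} (h : (x * y) ^ 2 ^ a = 1) :
    ∃ k ∈ L, ∃ u w, PD u ∧ PD w ∧ k * x * k⁻¹ = σ u ∧ k * y * k⁻¹ = σ w := by
  obtain ⟨k, hk, e⟩ := s.into hL (H9.isPGroup_closure_pair (hx.sq (zz σ)) (hy.sq (zz σ)) h)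
    ((closure_le _).2 (Set.pair_subset h1 h2))
  obtain ⟨u, a⟩ := e x (subset_closure (by simp))
  obtain ⟨w, b⟩ := e y (subset_closure (by simp))
  exact ⟨k, hk, u, w, s.pd (a ▸ hx.cj k), s.pd (b ▸ hy.cj k), a, b⟩

theorem c2 (s : Sy σ) (hx : Cj (σ z) x) (hy : Cj (σ z) y) {a : ℕ} (h : (x * y) ^ 2 ^ a = 1) :
    x * y = y * x := by
  obtain ⟨k, -, u, w, a, b, c, d⟩ := s.pair le_top hx hy (mem_top _) (mem_top _) h
  exact comm_of_cj (g := k) (by
    rw [c, d]; exact mem_c.1 (mapc (W_comm u (pd_W u a).1 w (pd_W w b).1)))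

theorem noD (s : Sy σ) (hx : Cj (σ z) x) (hy : Cj (σ z) y) (h : x * y = y * x) :
    ¬ Cj (σ z) (x * y) := fun e => by
  obtain ⟨k, -, u, w, a, b, c, d⟩ := s.pair le_top hx hy (mem_top _) (mem_top _) (a := 1)
    (sq_of_comm (hx.sq (zz σ)) (hy.sq (zz σ)) h)
  exact (pd_mul u a w b).1 (s.pd (by rw [map_mul, ← c, ← d, conj_mul]; exact e.cj k))

variable [IsSimpleGroup G]

theorem line (s : Sy σ) (hx : Cj (σ z) x) (hu : PD u) (hw : PD w) (h : u ≠ w)
    (h1 : x * σ u = σ u * x) (h2 : x * σ w = σ w * x) : ∃ v ∈ W0, x = σ v := by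
  obtain ⟨n, hn, a, b⟩ := s.two hu hw h
  have h3 := cj_comm n h1
  have h4 := cj_comm n h2
  rw [a.eq] at h3
  rw [b.eq] at h4
  have hy := hx.cj n
  obtain ⟨v, e⟩ : ∃ v, n * x * n⁻¹ = σ v := by
    generalize n * x * n⁻¹ = y at *
    obtain ⟨k, hk, p, q, c, d, e, f⟩ := s.pair range_c hy s.dt (mem_c.2 h3) (mapc (zc t)) (a := 1)
      (sq_of_comm (hy.sq (zz σ)) (s.dt.sq (zz σ)) h4)
    rcases (pd_mul p c q d).2 with rfl | rfl | m
    · exact ⟨z, (cj_symm e).symm.trans (actc.2 hk).symm⟩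
    · exact absurd (s.eq' f (actc.2 hk)) (by decide +kernel)
    obtain ⟨r, -, l⟩ := act_of_norm (inv_mem (s.cq' hk)) m
    refine ⟨r * t, ?_⟩
    rw [map_mul, ← l.eq, map_mul, map_inv, ← e, ← f]; group
  obtain ⟨r, hr, l⟩ := act_of_norm (inv_mem hn) (pd_W v (s.pd (e ▸ hy))).1
  exact ⟨r, hr, (cj_symm e).symm.trans l⟩

theorem lineE (s : Sy σ) (hx : Cj (σ z) x) (h : x * σ e1 = σ e1 * x) : ∃ v ∈ W0, x = σ v := by
  have x2 := hx.sq (zz σ)
  have t2 := s.dt.sq (zz σ)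
  have a : x * σ t = σ t * x := s.c2 hx s.dt (a := 2) (by
    rw [pow_two 2, pow_mul, pow_two (x * σ t), ← mul_assoc,
      show x * σ t * x = x * σ t * x⁻¹ by rw [inv_eq_of_mul_eq_one_right x2]]
    rcases (s.cw' (mem_c.2 h)).2 with c | c <;> rw [c]
    · rw [t2, one_pow]
    · rw [← map_mul, ← map_mul, ← map_pow, (by decide +kernel : (t * e1 * t) ^ 2 = 1), map_one])
  exact s.line hx pd_t (w := t * e1) (by decide +kernel) (by decide +kernel) a
    (by rw [map_mul]; exact comm_mul a h)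

theorem commB (s : Sy σ) {c : G} (hc : Cj (σ e1) c) (hx : Cj (σ z) x) (hy : Cj (σ z) y)
    (h1 : x * c = c * x) (h2 : y * c = c * y) : x * y = y * x := by
  obtain ⟨g, e⟩ := hc.symm
  obtain ⟨u, hu, a⟩ := s.lineE (hx.cj g) (e ▸ cj_comm g h1)
  obtain ⟨w, hw, b⟩ := s.lineE (hy.cj g) (e ▸ cj_comm g h2)
  exact comm_of_cj (g := g) (by rw [a, b]; exact mem_c.1 (mapc (W_comm u hu w hw)))

theorem oddT (s : Sy σ) (hx : Cj (σ z) x) (hy : Cj (σ z) y) (h : Even (orderOf (x * y))) :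
    x * y = y * x := by
  obtain ⟨c, h1, h2, h3, h4, -⟩ := dih (hx.sq (zz σ)) (hy.sq (zz σ)) h
  exact (s.cls' h1).elim (fun e => (s.noD e hx h2 (h4.elim hx.trans hy.trans)).elim)
    fun e => s.commB e hx hy h2.symm h3.symm

theorem toT (s : Sy σ) (hx : Cj (σ z) x) (h : x ∈ 𝐂₀(σ z)) :
    x = σ z ∨ ∃ g ∈ 𝐂₀(σ z), g * σ t * g⁻¹ = x := by
  obtain ⟨k, hk, u, e⟩ := exists_cj_mem2 (s.syl.mono range_c le_top) h (hx.sq (zz σ))
  rcases pd_cls u (s.pd (e.symm ▸ hx.cj k)) with rfl | ⟨l, -, c⟩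
  · exact Or.inl ((cj_symm e.symm).symm.trans (actc.2 hk).symm)
  · exact Or.inr ⟨_, mul_mem (inv_mem hk) (mapc (zc l)), cj_trans (Act.of_cj σ c) (cj_symm e.symm)⟩

theorem loc3 (s : Sy σ) (hy : Cj (σ z) y) (h : y ∈ 𝐂₀(σ z)) :
    (σ t * y) ^ 2 = 1 ∨ (σ t * y) ^ 3 = 1 := by
  rcases Nat.even_or_odd (orderOf (σ t * y)) with o | o
  · exact Or.inl (sq_of_comm (s.dt.sq (zz σ)) (hy.sq (zz σ)) (s.oddT s.dt hy o))
  rcases s.toT hy h with rfl | ⟨g, hg, rfl⟩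
  · exact Or.inl (sq_of_comm (s.dt.sq (zz σ)) (zz σ) (mem_c.1 (mapc (zc t))))
  have gz := actc.2 hg
  obtain ⟨u, hu, a⟩ := act_of_norm (s.cq' hg) (by decide +kernel : e1 ∈ Q0)
  obtain ⟨w, hw, b⟩ := act_of_norm (s.cq' hg) (by decide +kernel : e2 ∈ Q0)
  set x := σ t * (g * σ t * g⁻¹)
  have xc : x ∈ 𝐂₀(σ z) := mul_mem (mapc (zc t)) h
  have k1 : ∀ q ∈ Q0, Az σ x q (sf u w q) := fun q hq => by
    obtain ⟨r, hr, c⟩ := act_of_norm (inv_mem (s.cq' hg)) hq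
    rw [sf_eq]
    exact Az.trans (mul_assoc g _ _ ▸ (Az.of (Or.inl (c.trans (Act.self σ t r))) (sg_t r hr)).trans
      (Or.inl (s.sga a b (inv_inv g ▸ c.symm))) gz)
      (Or.inl (Act.self σ t _)) (actz σ t)
  have k2 : ∀ q ∈ Q0, sf u w q ∈ Q0 := fun q hq =>
    sf_eq u w q ▸ Normal.conj_mem inferInstance _ (sg_mem hu hw hq) t
  have k3 : ∀ n, (∀ q ∈ gQ, Az σ (x ^ n) q q) → x ^ n = 1 := fun n c => by
    have o' : Odd (orderOf (x ^ n)) := o.of_dvd_nat (orderOf_pow_dvd n)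
    refine (El2.of_mem (El2.of_mul_self (zz σ)).isPGroup (s.cQ' (H59.mem_centralizer_of_coprime
      (El2.of_mul_self (zz σ)).isPGroup (Nat.coprime_two_right.2 o')
      ((centralizer_zpowers _).ge (pow_mem xc n)) ?_))).eq_one o'
    rintro _ ⟨q, hq, rfl⟩
    rcases Az.all c q hq with d | d <;> rw [commutatorElement_def, d.eq]
    · rw [mul_inv_cancel]; exact one_mem _
    · rw [zc, map_mul, mul_inv_cancel_right]; exact mem_zpowers _
  have xz := actc.2 xc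
  refine (sg_ord u hu (s.sq a (by decide +kernel)) (s.ne a (by decide +kernel))
    (fun c => absurd (s.eq' a (gz.of_eq ⟨rfl, c.symm⟩)) (by decide +kernel)) w hw (s.sq b (by decide +kernel))
    (s.ne b (by decide +kernel)) (fun c => absurd (s.eq' b (gz.of_eq ⟨rfl, c.symm⟩)) (by decide +kernel))
    (s.comm a b (by decide +kernel)) (fun c => absurd (s.eq' a (c ▸ b)) (by decide +kernel))
    fun c => absurd (s.eq' (a.mul b) (gz.of_eq ⟨rfl, c.symm⟩)) (by decide +kernel)).imp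
    (fun c => k3 2 fun q hq => ?_) fun c => k3 3 fun q hq => ?_
  · have m := gQ_mem q hq
    exact pow_two x ▸ ((k1 q m).trans (k1 _ (k2 q m)) xz).of (c q hq)
  · have m := gQ_mem q hq
    exact pow_three x ▸ (((k1 q m).trans (k1 _ (k2 q m)) xz).trans (k1 _ (k2 _ (k2 q m))) xz).of
      (c q hq)

theorem common (s : Sy σ) (hx : Cj (σ z) x) :
    ∃ p, Cj (σ z) p ∧ x * p = p * x ∧ σ z * p = p * σ z := by
  have ze : σ z * σ e1 = σ e1 * σ z := mem_c.1 (mapc (zc e1).symm)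
  obtain ⟨c, h1, h2, h3⟩ := H9.exists_involution_commute_of_not_isConj (hx.sq (zz σ)) (ee σ)
    fun e => absurd (s.pd (hx.trans (isConj_iff.1 e))) (by decide +kernel)
  rcases s.cls' h1 with e | e
  · exact ⟨c, e, h2.symm, s.commB (Cj.refl _) (Cj.refl _) e ze h3⟩
  obtain ⟨k, hk, v, -, a⟩ := exists_cj_mem2 s.sylw (mem_c.2 h3) (mul_self_of_ord2 h1)
  have d := (Cj.refl (σ z)).cj k⁻¹
  exact ⟨_, d, s.commB e hx d h2.symm (cj_symm a.symm ▸ cj_comm k⁻¹ (mem_c.1 (mapc (zc v).symm))),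
    s.commB (Cj.refl _) (Cj.refl _) d ze
      (mem_c.1 (mul_mem (mul_mem (inv_mem hk) (mem_c.2 ze)) (inv_mem (inv_mem hk))))⟩

theorem all3 (s : Sy σ) (hx : Cj (σ z) x) (hy : Cj (σ z) y) : (x * y) ^ 2 = 1 ∨ (x * y) ^ 3 = 1 := by
  have k : ∀ {x y : G} (g : G), (g * x * g⁻¹ * (g * y * g⁻¹)) ^ 2 = 1 ∨
      (g * x * g⁻¹ * (g * y * g⁻¹)) ^ 3 = 1 → (x * y) ^ 2 = 1 ∨ (x * y) ^ 3 = 1 := fun g h => by
    simpa only [conj_mul, conj_pow, conj_eq_one_iff] using h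
  obtain ⟨g, e⟩ := hy.symm
  obtain ⟨p, ⟨l, rfl⟩, a, b⟩ := s.common (hx.cj g)
  refine k g (k l⁻¹ ?_)
  have a' := cj_comm l⁻¹ a
  have b' := cj_comm l⁻¹ b
  rw [cj_symm rfl] at a' b'
  have c := (hx.cj g).cj l⁻¹
  have d := (Cj.refl (σ z)).cj l⁻¹
  rw [e]
  rcases s.toT c (mem_c.2 a') with f | ⟨m, hm, f⟩
  · rw [f]; exact Or.inl (sq_of_comm (zz σ) (d.sq (zz σ)) b'.symm)
  · refine k m⁻¹ ?_
    rw [cj_symm f]
    exact s.loc3 (d.cj _) (mul_mem (mul_mem (inv_mem hm) (mem_c.2 b')) (inv_mem (inv_mem hm)))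

theorem main (s : Sy σ) : ∃ (F : Type) (_ : Field F) (_ : Fintype F), Fintype.card F = 4 ∧
    Nonempty (G ≃* PSU 5 F 2) := by
  have cm : commutator G = ⊤ := (IsSimpleGroup.eq_bot_or_eq_top_of_normal _ inferInstance).resolve_left
    fun e => s.not_cen fun g => commutatorElement_eq_one_iff_mul_comm.1
      (e.le (commutator_mem_commutator (mem_top g) (mem_top (σ z))))
  have dv : 1024 ∣ Nat.card G := U52.card ▸ card_dvd_of_injective σ s.inj
  rcases Cfsg.Agent.S1614.result (G := G) (fun N hN h =>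
      (IsSimpleGroup.eq_bot_or_eq_top_of_normal N hN).resolve_right fun e => by
        subst e
        have := H1.isSolvable_of_mulEquiv topEquiv h
        exact s.not_cen fun g => IsSimpleGroup.comm_iff_isSolvable.2 this g _)
    (by rw [cm]; exact cm) (D := conjugatesOf (σ z))
    ⟨⟨fun d hd => (H9.orderOf_eq_of_isConj hd).symm.trans (s.ord z2),
      fun d hd e he => s.all3 (isConj_iff.1 hd) (isConj_iff.1 he)⟩, ⟨_, IsConj.refl _, rfl⟩,
      top_le_iff.1 (((IsSimpleGroup.eq_bot_or_eq_top_of_normal (normalClosure {σ z})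
        inferInstance).resolve_left fun e => ne_one_of_ord2 (s.ord z2)
          (e.le (subset_normalClosure rfl))).ge.trans (closure_mono fun x hx => by
        obtain ⟨_, rfl, h⟩ := Group.mem_conjugatesOfSet_iff.1 hx
        exact h))⟩ (σ z) (IsConj.refl _)
    (H1.isSolvable_of_le s.solvZ ((closure_le _).2 fun y hy => mem_c.2 hy.2.2.symm)) with
    ⟨⟨e⟩⟩ | ⟨⟨e⟩⟩ | ⟨F, _, _, hF, ⟨⟨e⟩⟩ | e⟩
  · rw [Nat.card_congr e.toEquiv, Nat.card_perm, Nat.card_fin] at dv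
    exact absurd dv (by decide)
  · rw [Nat.card_congr e.toEquiv, Nat.card_perm, Nat.card_fin] at dv
    exact absurd dv (by decide)
  · have := Cfsg.Agent.S0280.result (q := 2) hF 4 (by norm_num)
    rw [← Nat.card_congr e.toEquiv] at this
    simp [Finset.prod_range_succ, Nat.even_iff] at this
    omega
  · exact ⟨F, _, _, hF, e⟩

end Sy

end H70.U52
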