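import Mathlib
import Cfsg.Agent.Base
import Cfsg.Agent.Lib.U52.Tr
import Cfsg.Agent.Lib.Unitary.Basic
import Cfsg.Agent.Lib.ClGeo.F4
import Cfsg.Agent.Lib.ClGeo.Heart

/-!
# The Sylow 2-subgroup of `U₅(2)` in matrices (helper70)
-/

set_option autoImplicit false
set_option maxRecDepth 100000

namespace H70.U52

open Subgroup H69 Cfsg H70.TM H30 Matrix

/-- a matrix from its code -/
def mt (n : ℕ) : Matrix (Fin 5) (Fin 5) F4 :=
  Matrix.of fun i j => [F4.o, F4.i, F4.w, F4.v].getD ((n >>> (2 * (5 * i.val + j.val))) % 4) F4.o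

/-- an element of `SU₅(2)` from its code -/
def su (n : ℕ) (h : (mt n)ᵀ * (mt n).map (fun x => x ^ 2) = 1 ∧ mt n * mt n * (mt n * mt n) = 1) :
    SU 5 F4 2 :=
  haveI : H11.U.IsSq F4 2 := ⟨rfl⟩
  H11.U.toSU (mt n) (H11.U.isIso_iff.2 h.1) (by
    have := congrArg det h.2
    rw [det_mul, det_mul, det_one] at this
    exact ((by decide : ∀ x : F4, x * x * (x * x) = x) _).symm.trans this)

def sA : SU 5 F4 2 := su 0x1281f390e1001 (by decide +kernel)
def sB : SU 5 F4 2 := su 0x13c1525091001 (by decide +kernel)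
def sC : SU 5 F4 2 := su 0x100100360fc39 (by decide +kernel)
def sD : SU 5 F4 2 := su 0x100100370f425 (by decide +kernel)
def sC' : SU 5 F4 2 := su 0x1001002a06c39 (by decide +kernel)
def sD' : SU 5 F4 2 := su 0x1001002b06425 (by decide +kernel)
def sM : SU 5 F4 2 := su 0x1000404000404 (by decide +kernel)

theorem su_ext {x y : SU 5 F4 2} (h : x.1.1 = y.1.1) : x = y := Subtype.ext (Subtype.ext h)

theorem relSU : Rel sA sB sC sD := by
  have hc : sC⁻¹ = sC' := inv_eq_of_mul_eq_one_right (su_ext (by decide +kernel))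
  have hd : sD⁻¹ = sD' := inv_eq_of_mul_eq_one_right (su_ext (by decide +kernel))
  rw [Rel, hc, hd]
  exact ⟨su_ext (by decide +kernel), su_ext (by decide +kernel), su_ext (by decide +kernel),
    su_ext (by decide +kernel), su_ext (by decide +kernel), su_ext (by decide +kernel),
    su_ext (by decide +kernel)⟩

theorem inj_z {G : Type*} [Group G] {f : E →* G} (h : f z ≠ 1) : Function.Injective f := by
  have p : ∀ K : Subgroup E, IsPGroup 2 K := fun K => isP_of_pow 3 fun u _ => pow8 u
  rw [← MonoidHom.ker_eq_bot_iff]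
  by_contra n
  obtain ⟨u, hu, h1⟩ := (bot_or_exists_ne_one _).resolve_left
    (inf_centralizer_ne_bot (p _) (p ⊤) le_normalizer_of_normal n)
  exact h ((cen u fun g _ => hu.2 g (mem_top g)).resolve_left h1 ▸ hu.1)

theorem exists_psu : ∃ ψ : E →* PSU 5 F4 2, ψ z ≠ 1 := by
  obtain ⟨φ, h1, h2, h3, h4⟩ := model relSU
  refine ⟨(QuotientGroup.mk' _).comp φ, fun e => ?_⟩
  have := mem_center_iff.1 ((QuotientGroup.eq_one_iff _).1 e) sM
  simp only [(by decide +kernel : z = d * a * d * c * b * c * b * a), map_mul, h1, h2, h3, h4] at this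
  exact absurd (congrArg (·.1.1) this) (by decide +kernel)

theorem final {G : Type*} [Group G] [Finite G] [IsSimpleGroup G] {F : Type*} [Field F] [Fintype F]
    (hF : Fintype.card F = 4) (S : Sylow 2 G) (P : Sylow 2 (PSU 5 F 2))
    (e : (S : Subgroup G) ≃* (P : Subgroup (PSU 5 F 2))) : Nonempty (G ≃* PSU 5 F 2) := by
  obtain ⟨i⟩ := F4.nonempty_ringEquiv hF
  obtain ⟨ψ, h⟩ := exists_psu
  let χ := (psuCongr i 5 2).symm.toMonoidHom.comp ψ
  have inj : Function.Injective χ := (psuCongr i 5 2).symm.injective.comp (inj_z h)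
  have c : ∀ {X : Type _} [Group X] {f : E →* X}, Function.Injective f → Nat.card f.range = 1024 :=
    fun h => (Nat.card_congr (MonoidHom.ofInjective h).toEquiv).symm.trans U52.card
  have sy : IsSylowIn 2 χ.range ⊤ := isSylowIn_of_not_dvd_relIndex (two_range χ) le_top (by
    have a := Cfsg.Agent.S0280.result (q := 2) hF 5 (by norm_num)
    rw [← χ.range.card_mul_index, c inj] at a
    simp [Finset.prod_range_succ, Nat.even_iff] at a
    rw [relIndex_top_right]
    omega)
  obtain ⟨g, -, hg⟩ := sy.conj (isSylowIn_top P)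
  let σ : E →* G := (S : Subgroup G).subtype.comp (e.symm.toMonoidHom.comp
    (((MulAut.conj g).toMonoidHom.comp χ).codRestrict _ fun u => hg.le (cj_mem g ⟨u, rfl⟩)))
  have inj' : Function.Injective σ := fun u w a =>
    inj ((MulAut.conj g).injective (congrArg Subtype.val (e.symm.injective (Subtype.ext a))))
  obtain ⟨K, _, _, hK, ⟨f⟩⟩ := Sy.main (σ := σ) ⟨inj', (isSylowIn_top S).of_card_le (two_range σ) le_top (by
    rw [Nat.card_congr e.toEquiv, ← hg, card_cj, c inj,
      ← Nat.card_congr (MonoidHom.ofInjective inj').toEquiv, U52.card])⟩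
  obtain ⟨j⟩ := F4.nonempty_ringEquiv hK
  exact ⟨f.trans (psuCongr (j.trans i.symm) 5 2)⟩

end H70.U52
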